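import Mathlib
import Cfsg.Agent.Lib.Char.Linear
import Cfsg.Agent.Lib.Char.FixedIrr
import Cfsg.Agent.Lib.Char.RealChar

/-!
# Irreducible characters under a fixed-point-free group of automorphisms

`E` acts on a finite group `X` so that no non-trivial element of `E` fixes a non-trivial conjugacy
class.  Then the orbits of `E` on the non-trivial irreducible characters are regular, which gives
lower bounds for the sums of squares of small degrees.
-/

set_option autoImplicit false
set_option linter.unusedSectionVars false
set_option linter.style.haveILetI false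
set_option linter.unusedDecidableInType false

namespace Cfsg.Agent.ZassenhausFeit

open Finset
open scoped ComplexConjugate

universe u v

variable {X : Type u} [Group X] [Finite X] {E : Type v} [Group E]

/-- No non-trivial element of `E` fixes a non-trivial conjugacy class of `X`. -/
def Free (ρ : E →* MulAut X) : Prop :=
  ∀ e : E, e ≠ 1 → ∀ x : X, x ≠ 1 → ¬ IsConj x (ρ e x)

/-- The conjugate `θ ∘ ρ e` of an irreducible character. -/
noncomputable def twist (ρ : E →* MulAut X) (e : E) (θ : IrrCharacter X) : IrrCharacter X :=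
  Char.irrPerm (ρ e) θ

variable (ρ : E →* MulAut X)

theorem twist_apply (e : E) (θ : IrrCharacter X) (x : X) :
    (twist ρ e θ).1 x = θ.1 (ρ e x) := rfl

theorem twist_one (θ : IrrCharacter X) : twist ρ 1 θ = θ :=
  Subtype.ext (funext fun x => by rw [twist_apply, map_one]; rfl)

theorem twist_mul (e f : E) (θ : IrrCharacter X) :
    twist ρ (e * f) θ = twist ρ f (twist ρ e θ) :=
  Subtype.ext (funext fun x => by rw [twist_apply, twist_apply, twist_apply, map_mul]; rfl)

theorem twist_trivial (e : E) : twist ρ e (Char.trivialChar X) = Char.trivialChar X :=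
  Subtype.ext (funext fun _ => rfl)

theorem twist_eq_iff (e : E) (θ η : IrrCharacter X) :
    twist ρ e θ = η ↔ twist ρ e⁻¹ η = θ := by
  constructor <;> rintro rfl <;> rw [← twist_mul]
  · rw [mul_inv_cancel, twist_one]
  · rw [inv_mul_cancel, twist_one]

theorem degree_twist (e : E) (θ : IrrCharacter X) :
    Char.degree (twist ρ e θ) = Char.degree θ := by
  have h := Char.apply_one_eq_degree (twist ρ e θ)
  rw [twist_apply, map_one, Char.apply_one_eq_degree] at h
  exact_mod_cast h.symm

theorem degree_trivial : Char.degree (Char.trivialChar X) = 1 := by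
  have h := Char.apply_one_eq_degree (Char.trivialChar X)
  rw [Char.trivialChar_apply] at h
  exact_mod_cast h.symm

theorem degree_linIrr (lam : X →* ℂ) : Char.degree (Char.linIrr lam) = 1 := by
  have h := Char.apply_one_eq_degree (Char.linIrr lam)
  rw [Char.linIrr_apply, map_one] at h
  exact_mod_cast h.symm

variable {ρ}

theorem eq_one_of_twist_eq (hρ : Free ρ) {θ : IrrCharacter X} (hθ : θ ≠ Char.trivialChar X)
    {e : E} (h : twist ρ e θ = θ) : e = 1 := by
  by_contra he
  obtain ⟨a, ha1, ha⟩ := (Char.exists_fixed_irr_iff (ρ e)).1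
    ⟨θ, hθ, congrArg Subtype.val h⟩
  exact hρ e he a ha1 ha

theorem twist_injective (hρ : Free ρ) {θ : IrrCharacter X} (hθ : θ ≠ Char.trivialChar X) :
    Function.Injective fun e : E => twist ρ e θ := by
  intro e f h
  have h' : twist ρ (e * f⁻¹) θ = θ := by
    rw [twist_mul, show twist ρ e θ = twist ρ f θ from h, ← twist_mul, mul_inv_cancel, twist_one]
  exact mul_inv_eq_one.1 (eq_one_of_twist_eq hρ hθ h')

theorem twist_ne_trivial {θ : IrrCharacter X} (hθ : θ ≠ Char.trivialChar X) (e : E) :
    twist ρ e θ ≠ Char.trivialChar X := fun h => hθ (by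
  rw [twist_eq_iff, twist_trivial] at h
  exact h.symm)

section Count

variable [Fintype E]

/-- The number of `e` carrying `θ` to `η`. -/
noncomputable def mult (ρ : E →* MulAut X) (θ η : IrrCharacter X) : ℕ := by
  classical exact (univ.filter fun e : E => twist ρ e θ = η).card

variable (ρ) in
theorem mult_comm (θ η : IrrCharacter X) : mult ρ θ η = mult ρ η θ := by
  classical
  simp only [mult]
  refine card_bij (fun e _ => e⁻¹) (fun e he => ?_) (fun a _ b _ h => inv_injective h)
    fun e he => ⟨e⁻¹, ?_, inv_inv e⟩
  · simp only [mem_filter, mem_univ, true_and] at he ⊢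
    exact (twist_eq_iff ρ e θ η).1 he
  · simp only [mem_filter, mem_univ, true_and] at he ⊢
    exact (twist_eq_iff ρ e η θ).1 he

theorem mult_le_one (hρ : Free ρ) {θ : IrrCharacter X} (hθ : θ ≠ Char.trivialChar X)
    (η : IrrCharacter X) : mult ρ θ η ≤ 1 := by
  classical
  refine card_le_one.2 fun a ha b hb => twist_injective hρ hθ ?_
  simp only [mem_filter, mem_univ, true_and] at ha hb
  exact ha.trans hb.symm

variable (ρ) in
theorem mult_trivial (η : IrrCharacter X) [Decidable (η = Char.trivialChar X)] :
    mult ρ (Char.trivialChar X) η = if η = Char.trivialChar X then Fintype.card E else 0 := by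
  classical
  simp only [mult, twist_trivial]
  split_ifs with h
  · rw [filter_true_of_mem fun _ _ => h.symm, card_univ]
  · exact card_eq_zero.2 (filter_eq_empty_iff.2 fun _ _ e => h e.symm)

theorem mult_self (hρ : Free ρ) {θ : IrrCharacter X} (hθ : θ ≠ Char.trivialChar X) :
    mult ρ θ θ = 1 := by
  classical
  refine le_antisymm (mult_le_one hρ hθ θ) (card_pos.2 ⟨1, ?_⟩)
  simp [twist_one]

theorem degree_eq_of_mult {θ η : IrrCharacter X} (h : mult ρ θ η ≠ 0) :
    Char.degree θ = Char.degree η := by
  classical
  obtain ⟨e, he⟩ := card_ne_zero.1 h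
  rw [mem_filter] at he
  rw [← he.2, degree_twist]

theorem exists_of_mult_ne_zero {θ η : IrrCharacter X} (h : mult ρ θ η ≠ 0) :
    ∃ e : E, twist ρ e θ = η := by
  classical
  obtain ⟨e, he⟩ := card_ne_zero.1 h
  exact ⟨e, (mem_filter.1 he).2⟩

theorem one_le_mult {θ η : IrrCharacter X} {e : E} (he : twist ρ e θ = η) : 1 ≤ mult ρ θ η := by
  classical
  exact card_pos.2 ⟨e, mem_filter.2 ⟨mem_univ _, he⟩⟩

theorem card_mult_ne_zero (hρ : Free ρ) {θ : IrrCharacter X} (hθ : θ ≠ Char.trivialChar X) :
    (univ.filter fun η : IrrCharacter X => mult ρ θ η ≠ 0).card = Fintype.card E := by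
  classical
  rw [← card_univ (α := E)]
  refine (card_bij (fun e _ => twist ρ e θ) (fun e _ => ?_) (fun a _ b _ h => twist_injective hρ hθ h)
    fun η hη => ?_).symm
  · refine mem_filter.2 ⟨mem_univ _, ?_⟩
    exact card_ne_zero.2 ⟨e, mem_filter.2 ⟨mem_univ e, rfl⟩⟩
  · obtain ⟨e, he⟩ := card_ne_zero.1 (mem_filter.1 hη).2
    exact ⟨e, mem_univ e, (mem_filter.1 he).2⟩

theorem succ_mul_sq_le_sum (hρ : Free ρ) {θ : IrrCharacter X} (hθ : θ ≠ Char.trivialChar X) :
    Fintype.card E * Char.degree θ ^ 2 + 1 ≤
      ∑ η ∈ (univ.filter fun η : IrrCharacter X => Char.degree η ≤ Char.degree θ),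
        Char.degree η ^ 2 := by
  classical
  set O := univ.image fun e : E => twist ρ e θ with hO
  have htriv : Char.trivialChar X ∉ O := by
    simp only [hO, mem_image, mem_univ, true_and, not_exists]
    exact twist_ne_trivial hθ
  calc Fintype.card E * Char.degree θ ^ 2 + 1
      = ∑ η ∈ insert (Char.trivialChar X) O, Char.degree η ^ 2 := by
        rw [sum_insert htriv, hO, sum_image (fun a _ b _ h => twist_injective hρ hθ h)]
        simp only [degree_twist, degree_trivial, sum_const, card_univ, smul_eq_mul]
        ring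
    _ ≤ _ := by
        refine sum_le_sum_of_subset fun η hη => ?_
        simp only [mem_filter, mem_univ, true_and]
        rcases mem_insert.1 hη with rfl | h
        · rw [degree_trivial]; exact Char.degree_pos θ
        · obtain ⟨e, -, rfl⟩ := mem_image.1 h
          rw [degree_twist]

theorem exists_ne_trivial_linear (hX : commutator X ≠ ⊤) :
    ∃ θ : IrrCharacter X, θ ≠ Char.trivialChar X ∧ Char.degree θ = 1 := by
  have h1 : 1 < Nat.card (X →* ℂ) := by
    rw [Char.card_monoidHom_complex]
    exact Subgroup.one_lt_index_of_ne_top hX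
  haveI : Finite (X →* ℂ) := Nat.finite_of_card_ne_zero (by omega)
  rw [Finite.one_lt_card_iff_nontrivial] at h1
  obtain ⟨lam, hlam⟩ := exists_ne (1 : X →* ℂ)
  exact ⟨Char.linIrr lam, fun e => hlam (Char.linIrr_injective (e.trans (Subtype.ext rfl))),
    degree_linIrr lam⟩

/-- At least `d + 1` linear characters. -/
theorem succ_le_card_linear (hρ : Free ρ) (hX : commutator X ≠ ⊤) :
    Fintype.card E + 1 ≤ (univ.filter fun η : IrrCharacter X => Char.degree η = 1).card := by
  classical
  obtain ⟨θ, hθ, hd⟩ := exists_ne_trivial_linear hX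
  have h := succ_mul_sq_le_sum hρ hθ
  rw [hd, one_pow, mul_one] at h
  refine h.trans ?_
  rw [card_eq_sum_ones]
  refine le_of_eq (sum_congr ?_ fun η hη => ?_)
  · refine filter_congr fun η _ => ?_
    have := Char.degree_pos η
    constructor <;> omega
  · rw [(mem_filter.1 hη).2, one_pow]

theorem eq_trivial_of_conj_eq [Fintype X] (hodd : Odd (Nat.card X)) {θ : IrrCharacter X}
    (hd : Char.degree θ = 1) (h : (Char.conjIrr θ) = θ) : θ = Char.trivialChar X := by
  obtain ⟨lam, hl⟩ := Char.IsCharacter.exists_monoidHom (Char.irr_isCharacter θ)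
    (by rw [Char.apply_one_eq_degree, hd, Nat.cast_one])
  refine Subtype.ext (funext fun x => ?_)
  rw [Char.trivialChar_apply]
  obtain ⟨k, hk⟩ := hodd
  set y := x ^ (k + 1)
  have hy : y * y = x := by
    rw [← pow_add, show k + 1 + (k + 1) = 2 * k + 1 + 1 by ring, pow_succ, ← hk, pow_card_eq_one',
      one_mul]
  have h1 : θ.1 y⁻¹ = θ.1 y := by
    conv_rhs => rw [← h]
    rw [Char.conjIrr_apply, Char.IsCharacter.conj_apply (Char.irr_isCharacter θ)]
  have h2 : lam y * lam y⁻¹ = 1 := by rw [← map_mul, mul_inv_cancel, map_one]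
  rw [← hl] at h1 ⊢
  rw [← hy, map_mul]
  rw [h1] at h2
  exact h2

/-- At least `2 d + 1` linear characters when both orders are odd. -/
theorem two_mul_succ_le_card_linear (hρ : Free ρ) (hX : commutator X ≠ ⊤)
    (hodd : Odd (Nat.card X)) (hdodd : Odd (Fintype.card E)) :
    2 * Fintype.card E + 1 ≤ (univ.filter fun η : IrrCharacter X => Char.degree η = 1).card := by
  classical
  letI := Fintype.ofFinite X
  obtain ⟨θ, hθ, hd⟩ := exists_ne_trivial_linear hX
  have hdc : Char.degree (Char.conjIrr θ) = 1 := by
    have h := Char.apply_one_eq_degree (Char.conjIrr θ)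
    rw [Char.conjIrr_apply, Char.apply_one_eq_degree, map_natCast, hd] at h
    exact_mod_cast h.symm
  have hne : Char.conjIrr θ ≠ Char.trivialChar X := fun e => hθ (by
    have e' := congrArg Char.conjIrr e
    rw [Char.conjIrr_conjIrr] at e'
    rw [e']
    exact Subtype.ext (funext fun x => by simp [Char.conjIrr_apply]))
  set O := univ.image fun e : E => twist ρ e θ with hO
  set O' := univ.image fun e : E => twist ρ e (Char.conjIrr θ) with hO'
  have hdis : Disjoint O O' := by
    rw [disjoint_left]
    intro η hη hη'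
    obtain ⟨e, -, rfl⟩ := mem_image.1 hη
    obtain ⟨f, -, hf⟩ := mem_image.1 hη'
    have hg : twist ρ (e * f⁻¹) θ = Char.conjIrr θ := by
      rw [twist_mul, ← hf, ← twist_mul, mul_inv_cancel, twist_one]
    set g := e * f⁻¹
    have hg2 : twist ρ g (Char.conjIrr θ) = θ := by
      refine Subtype.ext (funext fun x => ?_)
      have hx := congrArg conj (congrFun (congrArg Subtype.val hg) x)
      rw [twist_apply, Char.conjIrr_apply] at hx ⊢
      simpa using hx
    have h2 : twist ρ (g * g) θ = θ := by rw [twist_mul, hg, hg2]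
    have hgg := eq_one_of_twist_eq hρ hθ h2
    obtain ⟨k, hk⟩ := hdodd
    have hg1 : g = 1 := by
      have h3 : g ^ Fintype.card E = 1 := pow_card_eq_one
      rwa [hk, pow_succ, pow_mul, sq, hgg, one_pow, one_mul] at h3
    rw [hg1, twist_one] at hg
    exact hθ (eq_trivial_of_conj_eq hodd hd hg.symm)
  have htriv : Char.trivialChar X ∉ O ∪ O' := by
    simp only [hO, hO', mem_union, mem_image, mem_univ, true_and, not_or, not_exists]
    exact ⟨twist_ne_trivial hθ, twist_ne_trivial hne⟩
  calc 2 * Fintype.card E + 1 = (insert (Char.trivialChar X) (O ∪ O')).card := by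
        rw [card_insert_of_notMem htriv, card_union_of_disjoint hdis, hO, hO',
          card_image_of_injective _ (twist_injective hρ hθ),
          card_image_of_injective _ (twist_injective hρ hne), card_univ]
        ring
    _ ≤ _ := card_le_card fun η hη => by
        simp only [mem_filter, mem_univ, true_and]
        rcases mem_insert.1 hη with rfl | h
        · exact degree_trivial
        rcases mem_union.1 h with h | h <;> obtain ⟨e, -, rfl⟩ := mem_image.1 h <;>
          rw [degree_twist] <;> assumption

end Count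

end Cfsg.Agent.ZassenhausFeit
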