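import Mathlib
import Cfsg.Agent.Lib.Char.Product
import Cfsg.Agent.Lib.Char.PRegular
import Cfsg.Agent.Lib.PComplement.FixedPointFree
import Cfsg.Agent.Lib.ZassenhausFeit.FpfChar

/-!
# Degrees of characters of nilpotent groups which are not `p`-groups

The squares of the degrees less than the degree `f > 1` of an irreducible character of a nilpotent
group add up to at least `f ^ 2`; with a fixed-point-free group of automorphisms of odd order `d`
and two coprime factors this improves to more than `(2 f + 1) d + 1`.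
-/

set_option autoImplicit false
set_option linter.unusedSectionVars false
set_option linter.style.haveILetI false
set_option linter.unusedDecidableInType false

namespace Cfsg.Agent.ZassenhausFeit

open Finset

universe u v

variable {X : Type u} [Group X] [Finite X]

theorem sum_degree_sq (Y : Type u) [Group Y] [Finite Y] :
    ∑ χ : IrrCharacter Y, Char.degree χ ^ 2 = Nat.card Y := by
  letI := Fintype.ofFinite Y
  have h := Char.sum_irr_degree_sq (G := Y)
  simp only [Char.apply_one_eq_degree] at h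
  exact_mod_cast h

/-- A finite nilpotent group whose order is not a prime power is a product of two coprime
normal subgroups. -/
theorem exists_split [Group.IsNilpotent X] (hX : 1 < Nat.card X)
    (hnpp : ¬ IsPrimePow (Nat.card X)) :
    ∃ A B : Subgroup X, A.Normal ∧ B.Normal ∧ A ⊓ B = ⊥ ∧ A ⊔ B = ⊤ ∧ A ≠ ⊥ ∧ B ≠ ⊥ ∧
      (Nat.card A).Coprime (Nat.card B) ∧ Nat.card A * Nat.card B = Nat.card X := by
  set p := (Nat.card X).minFac with hp_def
  haveI hpf : Fact p.Prime := ⟨Nat.minFac_prime hX.ne'⟩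
  obtain ⟨P, N, hN, hc⟩ := PComplement.hasNormalPComplement_of_isNilpotent (p := p) (G := X)
  have hPn : (P : Subgroup X).Normal :=
    ((Group.isNilpotent_of_finite_tfae (G := X)).out 0 3 rfl rfl).1 ‹_› p hpf P
  obtain ⟨m, hm⟩ := P.2.exists_card_eq
  have hndvd : ¬ p ∣ Nat.card N := by
    rw [← hc.index_eq_card]
    exact P.not_dvd_index
  have hcop : (Nat.card (P : Subgroup X)).Coprime (Nat.card N) := by
    rw [hm]
    exact Nat.Coprime.pow_left _ (hpf.out.coprime_iff_not_dvd.2 hndvd)
  refine ⟨P, N, hPn, hN, disjoint_iff.1 hc.symm.disjoint, hc.symm.sup_eq_top, ?_, ?_, hcop,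
    hc.symm.card_mul_card⟩
  · exact P.ne_bot_of_dvd_card (Nat.minFac_dvd _)
  · intro hb
    refine hnpp ⟨p, m, hpf.out.prime, ?_, ?_⟩
    · rcases Nat.eq_zero_or_pos m with rfl | h
      · have h1 := hc.symm.card_mul_card
        rw [hb, Subgroup.card_bot, hm, pow_zero, one_mul] at h1
        omega
      · exact h
    · rw [← hc.symm.card_mul_card, hb, Subgroup.card_bot, mul_one, hm]

section Product

variable (A B : Subgroup X) [A.Normal] [B.Normal]

/-- The product of two complementary normal subgroups. -/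
noncomputable def prodIso (h : A ⊓ B = ⊥) (h' : A ⊔ B = ⊤) : A × B ≃* X :=
  have hcomm : ∀ (a : A) (b : B), Commute (A.subtype a) (B.subtype b) := fun a b =>
    Subgroup.commute_of_normal_of_disjoint A B inferInstance inferInstance (disjoint_iff.2 h)
      a b a.2 b.2
  MulEquiv.ofBijective (A.subtype.noncommCoprod B.subtype hcomm) ⟨by
    rw [injective_iff_map_eq_one]
    rintro ⟨a, b⟩ hab
    simp only [MonoidHom.noncommCoprod_apply, Subgroup.coe_subtype] at hab
    have ha : (a : X) ∈ A ⊓ B := ⟨a.2, by rw [eq_inv_of_mul_eq_one_left hab]; exact B.inv_mem b.2⟩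
    rw [h, Subgroup.mem_bot] at ha
    rw [ha, one_mul] at hab
    exact Prod.ext (Subtype.ext ha) (Subtype.ext hab), fun x => by
    obtain ⟨a, ha, b, hb, hx⟩ := Subgroup.mem_sup_of_normal_right.1
      (show x ∈ A ⊔ B by rw [h']; exact Subgroup.mem_top x)
    exact ⟨(⟨a, ha⟩, ⟨b, hb⟩), hx⟩⟩

theorem prodIso_apply (h : A ⊓ B = ⊥) (h' : A ⊔ B = ⊤) (x : A × B) :
    prodIso A B h h' x = (x.1 : X) * x.2 := rfl

end Product

section Pair

variable {A B : Type u} [Group A] [Group B] [Finite A] [Finite B] (Φ : A × B ≃* X)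

/-- The character of `X ≅ A × B` given by a pair. -/
noncomputable def pairChar (p : IrrCharacter A × IrrCharacter B) : IrrCharacter X :=
  letI := Fintype.ofFinite A
  letI := Fintype.ofFinite B
  Char.irrCongr Φ ⟨_, Char.isIrrCharacter_prod_mul p.1.2 p.2.2⟩

theorem pairChar_apply (p : IrrCharacter A × IrrCharacter B) (x : A × B) :
    (pairChar Φ p).1 (Φ x) = p.1.1 x.1 * p.2.1 x.2 := by
  show (p.1.1 (Φ.symm (Φ x)).1 * p.2.1 (Φ.symm (Φ x)).2) = _
  rw [Φ.symm_apply_apply]

theorem degree_pairChar (p : IrrCharacter A × IrrCharacter B) :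
    Char.degree (pairChar Φ p) = Char.degree p.1 * Char.degree p.2 := by
  have h := pairChar_apply Φ p 1
  rw [map_one, Prod.fst_one, Prod.snd_one, Char.apply_one_eq_degree, Char.apply_one_eq_degree,
    Char.apply_one_eq_degree] at h
  exact_mod_cast h

theorem pairChar_injective : Function.Injective (pairChar Φ) := by
  classical
  letI := Fintype.ofFinite A
  letI := Fintype.ofFinite B
  intro p q h
  have hfun : (fun x : A × B => p.1.1 x.1 * p.2.1 x.2) = fun x => q.1.1 x.1 * q.2.1 x.2 :=
    funext fun x => by rw [← pairChar_apply Φ p x, h, pairChar_apply Φ q x]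
  have h1 : classInner p.1.1 q.1.1 * classInner p.2.1 q.2.1 = 1 := by
    rw [← Char.classInner_prod_mul, ← hfun, Char.classInner_prod_mul, Char.classInner_irr_self p.1.2,
      Char.classInner_irr_self p.2.2, one_mul]
  rw [Char.classInner_irr, Char.classInner_irr] at h1
  refine Prod.ext ?_ ?_ <;> (by_contra hne; simp [hne] at h1)

theorem exists_pairChar_eq (θ : IrrCharacter X) : ∃ p, pairChar Φ p = θ := by
  obtain ⟨φ, ψ, hφ, hψ, h⟩ :=
    Char.exists_eq_prod_mul (Char.IsIrrCharacter.comp_mulEquiv θ.2 Φ)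
  refine ⟨(⟨φ, hφ⟩, ⟨ψ, hψ⟩), Subtype.ext (funext fun x => ?_)⟩
  obtain ⟨y, rfl⟩ := Φ.surjective x
  rw [pairChar_apply]
  exact (congrFun h y).symm

theorem sum_mul_sum_le (P : IrrCharacter A → Prop) (Q : IrrCharacter B → Prop)
    (R : IrrCharacter X → Prop) [DecidablePred P] [DecidablePred Q] [DecidablePred R]
    (hR : ∀ p : IrrCharacter A × IrrCharacter B, P p.1 → Q p.2 → R (pairChar Φ p)) :
    (∑ σ ∈ univ.filter P, Char.degree σ ^ 2) * (∑ τ ∈ univ.filter Q, Char.degree τ ^ 2) ≤
      ∑ θ ∈ univ.filter R, Char.degree θ ^ 2 := by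
  classical
  rw [sum_mul_sum, ← sum_product']
  have heq : ∀ p ∈ univ.filter P ×ˢ univ.filter Q,
      Char.degree p.1 ^ 2 * Char.degree p.2 ^ 2 = Char.degree (pairChar Φ p) ^ 2 := fun p _ => by
    rw [degree_pairChar, mul_pow]
  rw [sum_congr rfl heq, ← sum_image (g := pairChar Φ) (f := fun θ => Char.degree θ ^ 2)
    (fun a _ b _ h => pairChar_injective Φ h)]
  refine sum_le_sum_of_subset fun θ hθ => ?_
  obtain ⟨p, hp, rfl⟩ := mem_image.1 hθ
  rw [mem_product, mem_filter, mem_filter] at hp
  exact mem_filter.2 ⟨mem_univ _, hR p hp.1.2 hp.2.2⟩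

end Pair

theorem commutator_ne_top [Group.IsNilpotent X] [Nontrivial X] : commutator X ≠ ⊤ :=
  (Group.IsSolvable.commutator_lt_top_of_nontrivial X).ne

/-- In a nilpotent group the squares of the degrees below `f > 1` add up to at least `f ^ 2`. -/
theorem sq_le_sum_lt_of_nilpotent (Y : Type u) [Group Y] [Finite Y] [Group.IsNilpotent Y]
    (θ : IrrCharacter Y) (hθ : Char.degree θ ≠ 1) :
    Char.degree θ ^ 2 ≤
      ∑ η ∈ univ.filter (fun η : IrrCharacter Y => Char.degree η < Char.degree θ),
        Char.degree η ^ 2 := by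
  induction hn : Nat.card Y using Nat.strong_induction_on generalizing Y with
  | _ n ih =>
  subst hn
  classical
  have hY : 1 < Nat.card Y := by
    by_contra hle
    have h1 := sum_degree_sq Y
    have h2 : Char.degree θ ^ 2 ≤ ∑ χ : IrrCharacter Y, Char.degree χ ^ 2 :=
      single_le_sum (f := fun χ : IrrCharacter Y => Char.degree χ ^ 2) (fun χ _ => Nat.zero_le _)
        (mem_univ θ)
    have h3 := Char.degree_pos θ
    have h4 : 2 * 2 ≤ Char.degree θ ^ 2 := by rw [sq]; exact Nat.mul_le_mul (by omega) (by omega)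
    omega
  by_cases hpp : IsPrimePow (Nat.card Y)
  · obtain ⟨p, k, hp, hk, hcard⟩ := hpp
    have hp' : p.Prime := Nat.prime_iff.2 hp
    have hdeg : ∀ χ : IrrCharacter Y, ∃ i, Char.degree χ = p ^ i := fun χ => by
      have h := Char.degree_dvd_natCard χ
      rw [← hcard] at h
      obtain ⟨i, -, hi⟩ := (Nat.dvd_prime_pow hp').1 h
      exact ⟨i, hi⟩
    obtain ⟨j, hj⟩ := hdeg θ
    set f := Char.degree θ
    set S := ∑ η ∈ univ.filter (fun η : IrrCharacter Y => Char.degree η < f), Char.degree η ^ 2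
      with hS
    have hsplit : S + ∑ η ∈ univ.filter (fun η : IrrCharacter Y => ¬ Char.degree η < f),
        Char.degree η ^ 2 = Nat.card Y := by
      rw [hS, sum_filter_add_sum_filter_not, sum_degree_sq]
    have hbig : f ^ 2 ∣ ∑ η ∈ univ.filter (fun η : IrrCharacter Y => ¬ Char.degree η < f),
        Char.degree η ^ 2 := by
      refine dvd_sum fun η hη => pow_dvd_pow_of_dvd ?_ 2
      obtain ⟨i, hi⟩ := hdeg η
      have h := (mem_filter.1 hη).2
      rw [hi, hj] at h ⊢
      exact pow_dvd_pow p ((Nat.pow_le_pow_iff_right hp'.one_lt).1 (not_lt.1 h))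
    have htriv : 1 ≤ S := by
      have hm : Char.trivialChar Y ∈ univ.filter (fun η : IrrCharacter Y => Char.degree η < f) := by
        rw [mem_filter, degree_trivial]
        exact ⟨mem_univ _, by have := Char.degree_pos θ; omega⟩
      have := single_le_sum (f := fun η => Char.degree η ^ 2) (fun χ _ => Nat.zero_le _) hm
      simpa [hS, degree_trivial] using this
    have hlt : f ^ 2 < Nat.card Y := by
      have hm : θ ∈ univ.filter (fun η : IrrCharacter Y => ¬ Char.degree η < f) :=
        mem_filter.2 ⟨mem_univ θ, lt_irrefl _⟩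
      have := single_le_sum (f := fun η => Char.degree η ^ 2) (fun χ _ => Nat.zero_le _) hm
      change f ^ 2 ≤ _ at this
      omega
    have hdvdY : f ^ 2 ∣ Nat.card Y := by
      rw [hj, ← pow_mul, ← hcard] at hlt ⊢
      exact pow_dvd_pow p ((Nat.pow_lt_pow_iff_right hp'.one_lt).1 hlt).le
    exact Nat.le_of_dvd htriv ((Nat.dvd_add_left hbig).1 (hsplit ▸ hdvdY))
  obtain ⟨A, B, hA, hB, hbot, htop, hAne, hBne, -, hcard⟩ := exists_split hY hpp
  have hAlt : Nat.card A < Nat.card Y := by
    rw [← hcard]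
    exact lt_mul_of_one_lt_right Nat.card_pos ((Subgroup.one_lt_card_iff_ne_bot B).2 hBne)
  have hBlt : Nat.card B < Nat.card Y := by
    rw [← hcard]
    exact lt_mul_of_one_lt_left Nat.card_pos ((Subgroup.one_lt_card_iff_ne_bot A).2 hAne)
  set Φ := prodIso A B hbot htop
  obtain ⟨⟨α, β⟩, rfl⟩ := exists_pairChar_eq Φ θ
  rw [degree_pairChar] at hθ ⊢
  simp only at hθ ⊢
  rw [mul_pow]
  by_cases hα : Char.degree α = 1
  · have hβ : Char.degree β ≠ 1 := by simpa [hα] using hθ
    refine le_trans ?_ (sum_mul_sum_le Φ (fun σ => σ = α)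
      (fun τ => Char.degree τ < Char.degree β) _ fun p h1 h2 => ?_)
    · rw [sum_filter, sum_ite_eq' univ α, if_pos (mem_univ _)]
      exact Nat.mul_le_mul_left _ (ih _ hBlt B β hβ rfl)
    · rw [degree_pairChar, h1]
      exact Nat.mul_lt_mul_of_pos_left h2 (Char.degree_pos α)
  · refine le_trans ?_ (sum_mul_sum_le Φ (fun σ => Char.degree σ < Char.degree α)
      (fun τ => τ = β) _ fun p h1 h2 => ?_)
    · rw [sum_filter (fun τ => τ = β), sum_ite_eq' univ β, if_pos (mem_univ _)]
      exact Nat.mul_le_mul_right _ (ih _ hAlt A α hα rfl)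
    · rw [degree_pairChar, h2]
      exact Nat.mul_lt_mul_of_pos_right h1 (Char.degree_pos β)

section Free

variable {E : Type v} [Group E] [Fintype E] {ρ : E →* MulAut X}

theorem mem_of_coprime_normal {A B : Subgroup X} [A.Normal]
    (hcop : (Nat.card A).Coprime (Nat.card B)) (hcard : Nat.card A * Nat.card B = Nat.card X)
    {y : X} (hy : orderOf y ∣ Nat.card A) : y ∈ A := by
  rw [← QuotientGroup.eq_one_iff (N := A), ← orderOf_eq_one_iff]
  have h1 : orderOf (y : X ⧸ A) ∣ orderOf y := orderOf_map_dvd (QuotientGroup.mk' A) y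
  have h2 : orderOf (y : X ⧸ A) ∣ Nat.card (X ⧸ A) := orderOf_dvd_natCard _
  have h3 : Nat.card (X ⧸ A) = Nat.card B := by
    have h := A.card_mul_index
    rw [← hcard] at h
    exact Nat.eq_of_mul_eq_mul_left Nat.card_pos h
  rw [h3] at h2
  exact Nat.eq_one_of_dvd_coprimes hcop (h1.trans hy) h2

/-- The action on an invariant subgroup. -/
def restrictAct (ρ : E →* MulAut X) (A : Subgroup X) (hA : ∀ e, ∀ x ∈ A, ρ e x ∈ A) :
    E →* MulAut A where
  toFun e :=
    { toFun := fun x => ⟨ρ e x, hA e x x.2⟩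
      invFun := fun x => ⟨ρ e⁻¹ x, hA e⁻¹ x x.2⟩
      left_inv := fun x => Subtype.ext (by
        show ρ e⁻¹ (ρ e x) = x
        rw [← MulAut.mul_apply, ← map_mul, inv_mul_cancel, map_one]; rfl)
      right_inv := fun x => Subtype.ext (by
        show ρ e (ρ e⁻¹ x) = x
        rw [← MulAut.mul_apply, ← map_mul, mul_inv_cancel, map_one]; rfl)
      map_mul' := fun x y => Subtype.ext (map_mul (ρ e) (x : X) y) }
  map_one' := MulEquiv.ext fun x => Subtype.ext (by
    show ρ 1 (x : X) = x
    rw [map_one]; rfl)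
  map_mul' e f := MulEquiv.ext fun x => Subtype.ext (by
    show ρ (e * f) (x : X) = ρ e (ρ f x)
    rw [map_mul]; rfl)

theorem free_restrictAct (hρ : Free ρ) (A : Subgroup X) (hA : ∀ e, ∀ x ∈ A, ρ e x ∈ A) :
    Free (restrictAct ρ A hA) := by
  intro e he x hx hc
  exact hρ e he x (fun h => hx (Subtype.ext h)) (A.subtype.map_isConj hc)

variable {A B : Subgroup X} [A.Normal] [B.Normal] [Group.IsNilpotent X]

theorem linear_bound_aux (hρ : Free ρ) (hdodd : Odd (Fintype.card E)) (hbot : A ⊓ B = ⊥)
    (htop : A ⊔ B = ⊤) (hAne : A ≠ ⊥) (hBne : B ≠ ⊥) (hcop : (Nat.card A).Coprime (Nat.card B))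
    (hcard : Nat.card A * Nat.card B = Nat.card X) (hBodd : Odd (Nat.card B)) :
    Fintype.card E * (2 * Fintype.card E + 3) + 1 ≤
      (univ.filter fun η : IrrCharacter X => Char.degree η = 1).card := by
  classical
  have hA : ∀ e, ∀ x ∈ A, ρ e x ∈ A := fun e x hx => mem_of_coprime_normal hcop hcard
    (by rw [MulEquiv.orderOf_eq]; exact Subgroup.orderOf_dvd_natCard A hx)
  have hB : ∀ e, ∀ x ∈ B, ρ e x ∈ B := fun e x hx =>
    mem_of_coprime_normal (A := B) (B := A) hcop.symm (by rw [mul_comm, hcard])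
      (by rw [MulEquiv.orderOf_eq]; exact Subgroup.orderOf_dvd_natCard B hx)
  haveI : Nontrivial A := A.nontrivial_iff_ne_bot.2 hAne
  haveI : Nontrivial B := B.nontrivial_iff_ne_bot.2 hBne
  have h1 := succ_le_card_linear (free_restrictAct hρ A hA) commutator_ne_top
  have h2 := two_mul_succ_le_card_linear (free_restrictAct hρ B hB) commutator_ne_top hBodd hdodd
  have h3 := sum_mul_sum_le (prodIso A B hbot htop) (fun σ => Char.degree σ = 1)
    (fun τ => Char.degree τ = 1) (fun θ => Char.degree θ = 1)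
    fun p hp hq => by rw [degree_pairChar, hp, hq]
  have hone : ∀ (Y : Type u) [Group Y] [Finite Y],
      ∑ η ∈ univ.filter (fun η : IrrCharacter Y => Char.degree η = 1), Char.degree η ^ 2 =
        (univ.filter fun η : IrrCharacter Y => Char.degree η = 1).card := fun Y _ _ => by
    rw [card_eq_sum_ones]
    exact sum_congr rfl fun η hη => by rw [(mem_filter.1 hη).2, one_pow]
  rw [hone, hone, hone] at h3
  refine le_trans ?_ ((Nat.mul_le_mul h1 h2).trans h3)
  ring_nf
  exact le_rfl

theorem nonlinear_bound_aux (hρ : Free ρ) (hdodd : Odd (Fintype.card E)) (hd : 1 < Fintype.card E)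
    (hbot : A ⊓ B = ⊥) (htop : A ⊔ B = ⊤) (hBne : B ≠ ⊥) (hcop : (Nat.card A).Coprime (Nat.card B))
    (hcard : Nat.card A * Nat.card B = Nat.card X) (α : IrrCharacter A) (β : IrrCharacter B)
    (hα : Char.degree α ≠ 1) :
    (2 * Char.degree (pairChar (prodIso A B hbot htop) (α, β)) + 1) * Fintype.card E + 1 <
      ∑ η ∈ univ.filter (fun η : IrrCharacter X =>
        Char.degree η < Char.degree (pairChar (prodIso A B hbot htop) (α, β))),
        Char.degree η ^ 2 := by
  classical
  have hB : ∀ e, ∀ x ∈ B, ρ e x ∈ B := fun e x hx =>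
    mem_of_coprime_normal (A := B) (B := A) hcop.symm (by rw [mul_comm, hcard])
      (by rw [MulEquiv.orderOf_eq]; exact Subgroup.orderOf_dvd_natCard B hx)
  haveI : Nontrivial B := B.nontrivial_iff_ne_bot.2 hBne
  have hBfree := free_restrictAct hρ B hB
  rw [degree_pairChar]
  simp only
  set a := Char.degree α with ha_def
  set b := Char.degree β with hb_def
  set d := Fintype.card E
  have ha : 2 ≤ a := by have := Char.degree_pos α; omega
  have hb : 1 ≤ b := Char.degree_pos β
  have h1 := sq_le_sum_lt_of_nilpotent A α hα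
  have h3 := sum_mul_sum_le (prodIso A B hbot htop) (fun σ => Char.degree σ < a)
    (fun τ => Char.degree τ ≤ b) (fun η => Char.degree η < a * b) fun p hp hq => by
      rw [degree_pairChar]
      exact Nat.mul_lt_mul_of_lt_of_le hp hq hb
  set T := ∑ τ ∈ univ.filter (fun τ : IrrCharacter B => Char.degree τ ≤ b), Char.degree τ ^ 2
  -- an orbit of characters of `B` of degree at most `b`
  have hT : d * b ^ 2 + 1 ≤ T := by
    by_cases hβ : β = Char.trivialChar B
    · obtain ⟨η, hη, hη1⟩ := exists_ne_trivial_linear (X := B) commutator_ne_top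
      have h := succ_mul_sq_le_sum hBfree hη
      have hb1 : b = 1 := by rw [hb_def, hβ, degree_trivial]
      rw [hη1] at h
      simpa [T, hb1] using h
    · exact succ_mul_sq_le_sum hBfree hβ
  refine lt_of_lt_of_le ?_ ((Nat.mul_le_mul h1 le_rfl).trans h3)
  change (2 * (a * b) + 1) * d + 1 < a ^ 2 * T
  by_cases h2 : a * b = 2
  · have hb1 : b = 1 := by nlinarith
    have ha2 : a = 2 := by rw [hb1, mul_one] at h2; exact h2
    have hAeven : 2 ∣ Nat.card A := by
      have := Char.degree_dvd_natCard α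
      rwa [← ha_def, ha2] at this
    have hBodd : Odd (Nat.card B) := by
      rw [← Nat.not_even_iff_odd, even_iff_two_dvd]
      intro h
      have := Nat.dvd_gcd hAeven h
      rw [hcop.gcd_eq_one] at this
      omega
    have hl := two_mul_succ_le_card_linear hBfree commutator_ne_top hBodd hdodd
    have hlT : (univ.filter fun η : IrrCharacter B => Char.degree η = 1).card ≤ T := by
      rw [card_eq_sum_ones]
      refine le_trans (le_of_eq (sum_congr rfl fun η hη => ?_))
        (sum_le_sum_of_subset (f := fun η : IrrCharacter B => Char.degree η ^ 2) ?_)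
      · rw [(mem_filter.1 hη).2, one_pow]
      · intro η hη
        rw [mem_filter] at hη ⊢
        exact ⟨hη.1, by omega⟩
    rw [ha2, hb1]
    have : 2 * d + 1 ≤ T := hl.trans hlT
    omega
  · have hf : 3 ≤ a * b := by
      have : 2 ≤ a * b := le_mul_of_le_of_one_le ha hb
      omega
    have hT' : a ^ 2 * (d * b ^ 2 + 1) ≤ a ^ 2 * T := Nat.mul_le_mul_left _ hT
    have h5 : 3 * (a * b) * d ≤ (a * b) * (a * b) * d :=
      Nat.mul_le_mul_right d (Nat.mul_le_mul_right _ hf)
    have h6 : 3 * d ≤ (a * b) * d := Nat.mul_le_mul_right d hf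
    have h4 : 2 * (a * b) * d + d + 2 * d ≤ (a * b) * (a * b) * d := by linarith
    nlinarith

end Free

section Main

variable {E : Type v} [Group E] [Fintype E] {ρ : E →* MulAut X} [Group.IsNilpotent X]

theorem linear_bound (hρ : Free ρ) (hdodd : Odd (Fintype.card E)) (hX : 1 < Nat.card X)
    (hnpp : ¬ IsPrimePow (Nat.card X)) :
    Fintype.card E * (2 * Fintype.card E + 3) + 1 ≤
      (univ.filter fun η : IrrCharacter X => Char.degree η = 1).card := by
  obtain ⟨A, B, hA, hB, hbot, htop, hAne, hBne, hcop, hcard⟩ := exists_split hX hnpp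
  rcases Nat.even_or_odd (Nat.card B) with h | h
  · have hAodd : Odd (Nat.card A) := by
      rw [← Nat.not_even_iff_odd]
      intro h'
      have := Nat.dvd_gcd (even_iff_two_dvd.1 h') (even_iff_two_dvd.1 h)
      rw [hcop.gcd_eq_one] at this
      omega
    exact linear_bound_aux (A := B) (B := A) hρ hdodd (by rw [inf_comm, hbot])
      (by rw [sup_comm, htop]) hBne hAne hcop.symm (by rw [mul_comm, hcard]) hAodd
  · exact linear_bound_aux hρ hdodd hbot htop hAne hBne hcop hcard h

theorem nonlinear_bound (hρ : Free ρ) (hdodd : Odd (Fintype.card E)) (hd : 1 < Fintype.card E)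
    (hX : 1 < Nat.card X) (hnpp : ¬ IsPrimePow (Nat.card X)) (θ : IrrCharacter X)
    (hθ : Char.degree θ ≠ 1) :
    (2 * Char.degree θ + 1) * Fintype.card E + 1 <
      ∑ η ∈ univ.filter (fun η : IrrCharacter X => Char.degree η < Char.degree θ),
        Char.degree η ^ 2 := by
  obtain ⟨A, B, hA, hB, hbot, htop, hAne, hBne, hcop, hcard⟩ := exists_split hX hnpp
  obtain ⟨⟨α, β⟩, hp⟩ := exists_pairChar_eq (prodIso A B hbot htop) θ
  by_cases hα : Char.degree α = 1
  · have hbot' : B ⊓ A = ⊥ := by rw [inf_comm, hbot]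
    have htop' : B ⊔ A = ⊤ := by rw [sup_comm, htop]
    have hswap : pairChar (prodIso B A hbot' htop') (β, α) = θ := by
      refine Subtype.ext (funext fun x => ?_)
      obtain ⟨⟨a, b⟩, rfl⟩ := (prodIso A B hbot htop).surjective x
      have e : prodIso A B hbot htop (a, b) = prodIso B A hbot' htop' (b, a) := by
        rw [prodIso_apply, prodIso_apply]
        exact Subgroup.commute_of_normal_of_disjoint A B hA hB (disjoint_iff.2 hbot) a b a.2 b.2
      rw [← hp, pairChar_apply, e, pairChar_apply, mul_comm]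
    have hβ : Char.degree β ≠ 1 := by
      intro h
      rw [← hp, degree_pairChar] at hθ
      simp [h, hα] at hθ
    have := nonlinear_bound_aux (A := B) (B := A) hρ hdodd hd hbot' htop' hAne hcop.symm
      (by rw [mul_comm, hcard]) β α hβ
    rwa [hswap] at this
  · rw [← hp]
    exact nonlinear_bound_aux hρ hdodd hd hbot htop hBne hcop hcard α β hα

end Main

end Cfsg.Agent.ZassenhausFeit
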