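import Mathlib
import Cfsg.Agent.Lib.Char.Induction
import Cfsg.Agent.Lib.ZassenhausFeit.FpfChar

/-!
# Coherence for the kernel of a point stabiliser

`K` is a TI subgroup with normaliser `K E`, a Frobenius group, and `|G| = (|K| + 1) |K| |E|`.
All computations take place in the integer matrix `M θ χ = ⟨χ|_K, θ⟩`.  When `K` has many linear
characters and enough characters of each small degree, some irreducible character of `G` restricts
to `K` as a sum of non-trivial linear characters.
-/

set_option autoImplicit false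
set_option linter.unusedSectionVars false
set_option linter.style.haveILetI false
set_option linter.unusedDecidableInType false

namespace Cfsg.Agent.ZassenhausFeit

open Finset
open scoped ComplexConjugate

universe u

variable {G : Type u} [Group G]

/-- The hypotheses on `K` and `E`. -/
structure Setup (K E : Subgroup G) : Prop where
  norm : ∀ e ∈ E, ∀ k ∈ K, e * k * e⁻¹ ∈ K
  ti : ∀ g : G, ∀ k ∈ K, k ≠ 1 → g⁻¹ * k * g ∈ K → ∃ u ∈ K, ∃ e ∈ E, g = u * e
  cent : ∀ u ∈ K, ∀ e ∈ E, ∀ k ∈ K, k ≠ 1 → Commute (u * e) k → e = 1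
  disj : K ⊓ E = ⊥
  card : Nat.card G = (Nat.card K + 1) * (Nat.card K * Nat.card E)

/-- The action of `E` on `K` by conjugation. -/
def conjAct {K E : Subgroup G} (h : Setup K E) : E →* MulAut K where
  toFun e :=
    { toFun := fun x => ⟨e * x * (e : G)⁻¹, h.norm e e.2 x x.2⟩
      invFun := fun x => ⟨(e : G)⁻¹ * x * e, by simpa using h.norm _ (E.inv_mem e.2) x x.2⟩
      left_inv := fun x => Subtype.ext (by group)
      right_inv := fun x => Subtype.ext (by group)
      map_mul' := fun x y => Subtype.ext (by simp [mul_assoc]) }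
  map_one' := MulEquiv.ext fun x => Subtype.ext (by simp)
  map_mul' e f := MulEquiv.ext fun x => Subtype.ext (by simp [mul_assoc])

theorem conjAct_coe {K E : Subgroup G} (h : Setup K E) (e : E) (x : K) :
    ((conjAct h e x : K) : G) = e * x * (e : G)⁻¹ := rfl

theorem free_conjAct [Finite G] {K E : Subgroup G} (h : Setup K E) : Free (conjAct h) := by
  intro e he x hx hc
  obtain ⟨u, hu⟩ := isConj_iff.1 hc
  have hu' : (u : G) * x * (u : G)⁻¹ = e * x * (e : G)⁻¹ := by
    rw [← conjAct_coe h, ← hu]; rfl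
  have hcomm : Commute ((u : G)⁻¹ * e) x := by
    show ((u : G)⁻¹ * e) * x = x * ((u : G)⁻¹ * e)
    calc ((u : G)⁻¹ * e) * x = (u : G)⁻¹ * (e * x * (e : G)⁻¹) * e := by group
      _ = x * ((u : G)⁻¹ * e) := by rw [← hu']; group
  exact he (Subtype.ext (h.cent _ (K.inv_mem u.2) e e.2 x x.2 (fun e' => hx (Subtype.ext e')) hcomm))

section Char

variable [Fintype G] {K E : Subgroup G} [Fintype K] [Fintype E] (h : Setup K E)
include h

theorem indFun_apply_ne_one {φ : K → ℂ} (hφ : IsClassFunction K φ) {k : K} (hk : k ≠ 1) :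
    indFun K φ k = ∑ e : E, φ (conjAct h e k) := by
  classical
  have hinj : Function.Injective fun p : K × E => (p.1 : G) * p.2 := by
    rintro ⟨u, e⟩ ⟨u', e'⟩ he
    have hmem : (u' : G)⁻¹ * u ∈ K ⊓ E := by
      refine ⟨K.mul_mem (K.inv_mem u'.2) u.2, ?_⟩
      have : (u' : G)⁻¹ * u = e' * (e : G)⁻¹ := by
        rw [eq_mul_inv_iff_mul_eq, mul_assoc, inv_mul_eq_iff_eq_mul]
        exact he
      rw [this]
      exact E.mul_mem e'.2 (E.inv_mem e.2)
    rw [h.disj, Subgroup.mem_bot, inv_mul_eq_one] at hmem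
    have huu : u' = u := Subtype.ext hmem
    subst huu
    exact Prod.ext rfl (Subtype.ext (mul_left_cancel he))
  have hterm : ∀ p : K × E,
      φ (conjAct h p.2⁻¹ k) = extendByZero K φ (((p.1 : G) * p.2)⁻¹ * k * ((p.1 : G) * p.2)) := by
    rintro ⟨u, e⟩
    have hval : ((u : G) * e)⁻¹ * k * ((u : G) * e) =
        ((conjAct h e⁻¹ (u⁻¹ * k * u) : K) : G) := by
      rw [conjAct_coe]
      simp [mul_assoc]
    rw [hval, Char.extendByZero_coe, map_mul, map_mul]
    have h1 := hφ (conjAct h e⁻¹ k) (conjAct h e⁻¹ u⁻¹)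
    rw [← map_inv, inv_inv] at h1
    exact h1.symm
  have hsum : ∑ x : G, extendByZero K φ (x⁻¹ * k * x) =
      ∑ p : K × E, φ (conjAct h p.2⁻¹ k) := by
    refine (Fintype.sum_of_injective _ hinj _ _ ?_ hterm).symm
    intro x hx
    refine Char.extendByZero_of_notMem _ _ fun hm => hx ?_
    obtain ⟨u, hu, e, he, rfl⟩ := h.ti x k k.2 (fun e' => hk (Subtype.ext e')) hm
    exact ⟨(⟨u, hu⟩, ⟨e, he⟩), rfl⟩
  have hK : (Nat.card K : ℂ) ≠ 0 := Nat.cast_ne_zero.2 Nat.card_pos.ne'
  rw [indFun, hsum, Fintype.sum_prod_type]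
  simp only [Finset.sum_const, Finset.card_univ, nsmul_eq_mul, ← Nat.card_eq_fintype_card]
  rw [inv_mul_cancel_left₀ hK]
  exact Fintype.sum_equiv (Equiv.inv E) _ _ fun e => rfl

end Char

section Matrix

variable [Fintype G]

/-- The multiplicity of `θ` in the restriction of `χ`. -/
noncomputable def resMult (K : Subgroup G) [Fintype K] (θ : IrrCharacter K) (χ : IrrCharacter G) : ℕ :=
  Classical.choose (Char.IsCharacter.exists_nat_classInner
    (Char.IsCharacter.restrict (Char.irr_isCharacter χ) K) (Char.irr_isCharacter θ))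

variable {K : Subgroup G} [Fintype K]

theorem resMult_eq (θ : IrrCharacter K) (χ : IrrCharacter G) :
    classInner (fun x : K => χ.1 x) θ.1 = resMult K θ χ :=
  Classical.choose_spec (Char.IsCharacter.exists_nat_classInner
    (Char.IsCharacter.restrict (Char.irr_isCharacter χ) K) (Char.irr_isCharacter θ))

/-- The coefficient of `χ` in the character induced from `θ'(1) θ - θ(1) θ'`. -/
noncomputable def coef (K : Subgroup G) [Fintype K] (θ θ' : IrrCharacter K) (χ : IrrCharacter G) : ℤ :=
  (Char.degree θ' : ℤ) * resMult K θ χ - (Char.degree θ : ℤ) * resMult K θ' χ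

theorem classInner_indFun_pair (θ θ' : IrrCharacter K) (χ : IrrCharacter G) :
    classInner (indFun K ((Char.degree θ' : ℂ) • θ.1 - (Char.degree θ : ℂ) • θ'.1)) χ.1 =
      (coef K θ θ' χ : ℂ) := by
  rw [Char.classInner_indFun _ _ (Char.IsCharacter.isClassFunction (Char.irr_isCharacter χ)),
    ← Char.conj_classInner, Char.classInner_sub_right, Char.classInner_smul_right,
    Char.classInner_smul_right, resMult_eq, resMult_eq]
  simp [coef]

theorem indFun_pair (θ θ' : IrrCharacter K) :
    indFun K ((Char.degree θ' : ℂ) • θ.1 - (Char.degree θ : ℂ) • θ'.1) =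
      ∑ χ : IrrCharacter G, (coef K θ θ' χ : ℂ) • χ.1 := by
  conv_lhs => rw [Char.eq_sum_classInner_smul (Char.isClassFunction_indFun K _)]
  exact Finset.sum_congr rfl fun χ _ => by rw [classInner_indFun_pair]

theorem sum_coef_mul_degree (θ θ' : IrrCharacter K) :
    ∑ χ : IrrCharacter G, coef K θ θ' χ * (Char.degree χ : ℤ) = 0 := by
  have h := congrFun (indFun_pair θ θ') 1
  rw [Char.indFun_apply_one] at h
  simp only [Pi.sub_apply, Pi.smul_apply, Finset.sum_apply, smul_eq_mul,
    Char.apply_one_eq_degree] at h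
  rw [mul_comm (Char.degree θ : ℂ), sub_self, mul_zero] at h
  exact_mod_cast h.symm

variable {E : Subgroup G} [Fintype E]

/-- The key identity. -/
theorem sum_coef_mul_resMult (h : Setup K E) (θ θ' η : IrrCharacter K) :
    ∑ χ : IrrCharacter G, coef K θ θ' χ * (resMult K η χ : ℤ) =
      (Char.degree θ' : ℤ) * mult (conjAct h) θ η - (Char.degree θ : ℤ) * mult (conjAct h) θ' η := by
  classical
  set φ : K → ℂ := (Char.degree θ' : ℂ) • θ.1 - (Char.degree θ : ℂ) • θ'.1 with hφ
  have hφc : IsClassFunction K φ := fun a b => by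
    simp only [hφ, Pi.sub_apply, Pi.smul_apply,
      Char.IsCharacter.isClassFunction (Char.irr_isCharacter θ) a b,
      Char.IsCharacter.isClassFunction (Char.irr_isCharacter θ') a b]
  have hres : (fun x : K => indFun K φ x) =
      ∑ e : E, ((Char.degree θ' : ℂ) • (twist (conjAct h) e θ).1 -
        (Char.degree θ : ℂ) • (twist (conjAct h) e θ').1) := by
    funext x
    simp only [Finset.sum_apply, Pi.sub_apply, Pi.smul_apply, twist_apply]
    by_cases hx : x = 1
    · subst hx
      rw [Subgroup.coe_one, Char.indFun_apply_one]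
      simp [hφ, Char.apply_one_eq_degree, mul_comm]
    · rw [indFun_apply_ne_one h hφc hx]
      exact Finset.sum_congr rfl fun e _ => by simp [hφ]
  have hL : classInner (fun x : K => indFun K φ x) η.1 =
      ((∑ χ : IrrCharacter G, coef K θ θ' χ * (resMult K η χ : ℤ) : ℤ) : ℂ) := by
    have e1 : (fun x : K => indFun K φ x) =
        ∑ χ : IrrCharacter G, (coef K θ θ' χ : ℂ) • fun x : K => χ.1 x := by
      funext x
      rw [hφ, indFun_pair]
      simp
    rw [e1, Char.classInner_sum_left]
    push_cast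
    exact Finset.sum_congr rfl fun χ _ => by rw [Char.classInner_smul_left, resMult_eq]
  rw [hres, Char.classInner_sum_left] at hL
  simp only [Char.classInner_sub_left, Char.classInner_smul_left, Char.classInner_irr,
    Finset.sum_sub_distrib, ← Finset.mul_sum, Finset.sum_boole] at hL
  apply (Int.cast_injective (α := ℂ))
  rw [← hL]
  simp only [mult]
  push_cast
  congr! 4 <;> (ext; simp)

theorem sum_resMult_trivial_sq (h : Setup K E) :
    ∑ χ : IrrCharacter G, (resMult K (Char.trivialChar K) χ : ℤ) ^ 2 =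
      2 * (Fintype.card E : ℤ) := by
  classical
  set one : K → ℂ := (Char.trivialChar K).1
  have hc : IsClassFunction K one := fun _ _ => rfl
  have hK : (Nat.card K : ℂ) ≠ 0 := Nat.cast_ne_zero.2 Nat.card_pos.ne'
  have hidx : (K.index : ℂ) = ((Nat.card K : ℂ) + 1) * Fintype.card E := by
    have h1 := K.card_mul_index
    rw [h.card, ← Nat.card_eq_fintype_card (α := E)] at *
    have h2 : K.index = (Nat.card K + 1) * Nat.card E :=
      Nat.eq_of_mul_eq_mul_left (Nat.card_pos (α := K)) (by rw [h1]; ring)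
    rw [h2]; push_cast; ring
  have hR : classInner (fun x : K => indFun K one x) one = 2 * (Fintype.card E : ℂ) := by
    have hval : ∀ x : K, indFun K one x * conj (one x) =
        (Fintype.card E : ℂ) + if x = 1 then (Nat.card K : ℂ) * Fintype.card E else 0 := by
      intro x
      by_cases hx : x = 1
      · subst hx
        rw [Subgroup.coe_one, Char.indFun_apply_one, hidx, if_pos rfl]
        simp [one]; ring
      · rw [indFun_apply_ne_one h hc hx, if_neg hx]
        simp [one]
    rw [classInner, Finset.sum_congr rfl fun x _ => hval x, Finset.sum_add_distrib,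
      Finset.sum_ite_eq' univ (1 : K), if_pos (mem_univ _), Finset.sum_const, card_univ,
      ← Nat.card_eq_fintype_card, nsmul_eq_mul]
    field_simp
    ring
  have hL : classInner (fun x : K => indFun K one x) one =
      ((∑ χ : IrrCharacter G, (resMult K (Char.trivialChar K) χ : ℤ) ^ 2 : ℤ) : ℂ) := by
    have e1 : (fun x : K => indFun K one x) =
        ∑ χ : IrrCharacter G, (resMult K (Char.trivialChar K) χ : ℂ) • fun x : K => χ.1 x := by
      funext x
      conv_lhs => rw [Char.eq_sum_classInner_smul (Char.isClassFunction_indFun K one)]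
      simp only [Finset.sum_apply, Pi.smul_apply]
      refine Finset.sum_congr rfl fun χ _ => ?_
      rw [Char.classInner_indFun _ _ (Char.IsCharacter.isClassFunction (Char.irr_isCharacter χ)),
        ← Char.conj_classInner, resMult_eq, map_natCast]
    rw [e1, Char.classInner_sum_left]
    push_cast
    exact Finset.sum_congr rfl fun χ _ => by
      rw [Char.classInner_smul_left, resMult_eq, pow_two]
  exact_mod_cast hL.symm.trans hR

theorem resMult_trivial_trivial :
    resMult K (Char.trivialChar K) (Char.trivialChar G) = 1 := by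
  have h := resMult_eq (Char.trivialChar K) (Char.trivialChar G)
  rw [show (fun x : K => (Char.trivialChar G).1 x) = (Char.trivialChar K).1 from rfl,
    Char.classInner_irr_self (Char.trivialChar K).2] at h
  exact_mod_cast h.symm

theorem resMult_trivial_of_ne {θ : IrrCharacter K} (hθ : θ ≠ Char.trivialChar K) :
    resMult K θ (Char.trivialChar G) = 0 := by
  have h := resMult_eq θ (Char.trivialChar G)
  rw [show (fun x : K => (Char.trivialChar G).1 x) = (Char.trivialChar K).1 from rfl,
    Char.classInner_irr_of_ne (Char.trivialChar K).2 θ.2 fun e => hθ (Subtype.ext e.symm)] at h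
  exact_mod_cast h.symm

end Matrix

section Lattice

variable {J : Type*} [Fintype J]

/-- A vector of norm two orthogonal to a positive vector. -/
theorem exists_pair_of_norm_two [DecidableEq J] (w D : J → ℤ) (hD : ∀ x, 0 < D x)
    (hn : ∑ x, w x ^ 2 = 2) (hd : ∑ x, w x * D x = 0) :
    ∃ p q : J, p ≠ q ∧ ∀ x, w x = (if x = p then 1 else 0) - (if x = q then 1 else 0) := by
  have hle : ∀ x, w x ^ 2 ≤ 2 := fun x =>
    hn ▸ single_le_sum (f := fun y => w y ^ 2) (fun y _ => sq_nonneg _) (mem_univ x)
  have hval : ∀ x, w x = 0 ∨ w x = 1 ∨ w x = -1 := fun x => by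
    have := hle x
    have h1 : w x ≤ 1 := by nlinarith
    have h2 : -1 ≤ w x := by nlinarith
    omega
  have hsq : ∀ x, w x ^ 2 = if w x ≠ 0 then 1 else 0 := fun x => by
    rcases hval x with h | h | h <;> simp [h]
  have hcard : (univ.filter fun x => w x ≠ 0).card = 2 := by
    rw [sum_congr rfl fun x _ => hsq x, sum_boole] at hn
    exact_mod_cast hn
  obtain ⟨a, b, hab, hS⟩ := card_eq_two.1 hcard
  have hout : ∀ x, x ≠ a → x ≠ b → w x = 0 := fun x hxa hxb => by
    by_contra hx
    have : x ∈ ({a, b} : Finset J) := hS ▸ mem_filter.2 ⟨mem_univ x, hx⟩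
    simp [hxa, hxb] at this
  have hd' : w a * D a + w b * D b = 0 := by
    rw [← hd, ← sum_subset (subset_univ ({a, b} : Finset J)) fun x _ hx => by
      simp only [mem_insert, mem_singleton, not_or] at hx
      rw [hout x hx.1 hx.2, zero_mul], sum_pair hab]
  have ha0 : w a ≠ 0 := (mem_filter.1 (hS ▸ mem_insert_self a _ : a ∈ univ.filter fun x => w x ≠ 0)).2
  have hb0 : w b ≠ 0 :=
    (mem_filter.1 (hS ▸ mem_insert_of_mem (mem_singleton_self b) : b ∈ univ.filter fun x => w x ≠ 0)).2
  have hDa := hD a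
  have hDb := hD b
  rcases (hval a).resolve_left ha0 with ha | ha <;> rcases (hval b).resolve_left hb0 with hb | hb <;>
    rw [ha, hb] at hd'
  · omega
  · refine ⟨a, b, hab, fun x => ?_⟩
    by_cases hxa : x = a
    · subst hxa; simp [ha, hab]
    by_cases hxb : x = b
    · subst hxb; simp [hb, hxa]
    simp [hout x hxa hxb, hxa, hxb]
  · refine ⟨b, a, hab.symm, fun x => ?_⟩
    by_cases hxb : x = b
    · subst hxb; simp [hb, hab.symm]
    by_cases hxa : x = a
    · subst hxa; simp [ha, hxb]
    simp [hout x hxa hxb, hxa, hxb]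
  · omega

/-- Vectors of norm two with all mutual inner products one form a star. -/
theorem exists_star [DecidableEq J] {ι : Type*} [DecidableEq ι] (S : Finset ι) (hS : 3 ≤ S.card)
    (w : ι → J → ℤ) (D : J → ℤ) (hD : ∀ x, 0 < D x) (hd : ∀ i ∈ S, ∑ x, w i x * D x = 0)
    (hn : ∀ i ∈ S, ∑ x, w i x ^ 2 = 2)
    (hip : ∀ i ∈ S, ∀ j ∈ S, i ≠ j → ∑ x, w i x * w j x = 1) :
    ∃ (c : J) (ε : ℤ) (f : ι → J), (ε = 1 ∨ ε = -1) ∧ (∀ i ∈ S, f i ≠ c) ∧
      (∀ i ∈ S, ∀ j ∈ S, f i = f j → i = j) ∧
      ∀ i ∈ S, ∀ x, w i x = ε * ((if x = c then 1 else 0) - (if x = f i then 1 else 0)) := by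
  have h := fun i : {i // i ∈ S} => exists_pair_of_norm_two (w i.1) D hD (hn i.1 i.2) (hd i.1 i.2)
  choose p q hpq hw using h
  have hdot : ∀ i j : {i // i ∈ S}, i ≠ j →
      (if p i = p j then (1 : ℤ) else 0) + (if q i = q j then 1 else 0) -
        (if p i = q j then 1 else 0) - (if q i = p j then 1 else 0) = 1 := fun i j hij => by
    have h1 := hip i.1 i.2 j.1 j.2 (fun e => hij (Subtype.ext e))
    simp only [hw, sub_mul, mul_sub, Finset.sum_sub_distrib, ite_mul, one_mul, zero_mul,
      Finset.sum_ite_eq', mem_univ, if_true] at h1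
    linarith
  have hxor : ∀ i j : {i // i ∈ S}, i ≠ j →
      (p i = p j ∧ q i ≠ q j) ∨ (p i ≠ p j ∧ q i = q j) := fun i j hij => by
    have h1 := hdot i j hij
    have := hpq i
    have := hpq j
    split_ifs at h1 <;> simp_all
  obtain ⟨x₁, x₂, -, hx₁, hx₂, -, hne, -, -⟩ := two_lt_card_iff.1 (show 2 < S.card by omega)
  set i₁ : {i // i ∈ S} := ⟨x₁, hx₁⟩
  set i₂ : {i // i ∈ S} := ⟨x₂, hx₂⟩
  have hne' : i₁ ≠ i₂ := fun e => hne (congrArg Subtype.val e)
  rcases hxor i₁ i₂ hne' with ⟨hp, hq⟩ | ⟨hp, hq⟩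
  · have hall : ∀ i, p i = p i₁ := fun i => by
      by_cases h1 : i = i₁
      · rw [h1]
      by_cases h2 : i = i₂
      · rw [h2, hp]
      rcases hxor i i₁ h1 with e | e
      · exact e.1
      · rcases hxor i i₂ h2 with e' | e'
        · exact e'.1.trans hp.symm
        · exact absurd (e.2.symm.trans e'.2) hq
    refine ⟨p i₁, 1, fun i => if hi : i ∈ S then q ⟨i, hi⟩ else p i₁, Or.inl rfl, fun i hi => ?_,
      fun i hi j hj e => ?_, fun i hi x => ?_⟩
    · simp only [dif_pos hi]
      rw [← hall ⟨i, hi⟩]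
      exact (hpq _).symm
    · simp only [dif_pos hi, dif_pos hj] at e
      by_contra hij
      rcases hxor ⟨i, hi⟩ ⟨j, hj⟩ (fun e' => hij (congrArg Subtype.val e')) with e' | e'
      · exact e'.2 e
      · exact e'.1 ((hall _).trans (hall _).symm)
    · rw [hw ⟨i, hi⟩ x, hall, one_mul]
      simp only [dif_pos hi]
  · have hall : ∀ i, q i = q i₁ := fun i => by
      by_cases h1 : i = i₁
      · rw [h1]
      by_cases h2 : i = i₂
      · rw [h2, hq]
      rcases hxor i i₁ h1 with e | e
      · rcases hxor i i₂ h2 with e' | e'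
        · exact absurd (e.1.symm.trans e'.1) hp
        · exact e'.2.trans hq.symm
      · exact e.2
    refine ⟨q i₁, -1, fun i => if hi : i ∈ S then p ⟨i, hi⟩ else q i₁, Or.inr rfl, fun i hi => ?_,
      fun i hi j hj e => ?_, fun i hi x => ?_⟩
    · simp only [dif_pos hi]
      rw [← hall ⟨i, hi⟩]
      exact hpq _
    · simp only [dif_pos hi, dif_pos hj] at e
      by_contra hij
      rcases hxor ⟨i, hi⟩ ⟨j, hj⟩ (fun e' => hij (congrArg Subtype.val e')) with e' | e'
      · exact e'.2 ((hall _).trans (hall _).symm)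
      · exact e'.1 e
    · rw [hw ⟨i, hi⟩ x, hall]
      simp only [dif_pos hi]
      ring

end Lattice

section Main

variable [Fintype G] {K E : Subgroup G} [Fintype K] [Fintype E]

/-- The squared norm of the coefficient vector and mutual inner products. -/
theorem sum_coef_mul_coef (h : Setup K E) (θ θ' η η' : IrrCharacter K) :
    ∑ χ : IrrCharacter G, coef K θ θ' χ * coef K η η' χ =
      (Char.degree η' : ℤ) * ((Char.degree θ' : ℤ) * mult (conjAct h) θ η -
          (Char.degree θ : ℤ) * mult (conjAct h) θ' η) -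
        (Char.degree η : ℤ) * ((Char.degree θ' : ℤ) * mult (conjAct h) θ η' -
          (Char.degree θ : ℤ) * mult (conjAct h) θ' η') := by
  rw [← sum_coef_mul_resMult h, ← sum_coef_mul_resMult h, Finset.mul_sum, Finset.mul_sum,
    ← Finset.sum_sub_distrib]
  exact Finset.sum_congr rfl fun χ _ => by simp only [coef]; ring

theorem mult_eq_zero_of_degree {ρ : E →* MulAut K} {θ η : IrrCharacter K}
    (hne : Char.degree θ ≠ Char.degree η) : mult ρ θ η = 0 :=
  by_contra fun hm => hne (degree_eq_of_mult hm)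

theorem mult_trivial_right (h : Setup K E) {θ : IrrCharacter K} (hθ : θ ≠ Char.trivialChar K) :
    mult (conjAct h) θ (Char.trivialChar K) = 0 := by
  classical
  rw [mult_comm, mult_trivial, if_neg hθ]

set_option maxHeartbeats 1000000 in
/-- Some irreducible character of `G` restricts to `K` as a sum of non-trivial linear characters. -/
theorem exists_linear_restriction (h : Setup K E)
    (hlin : Fintype.card E * (2 * Fintype.card E + 3) + 1 ≤
      (univ.filter fun η : IrrCharacter K => Char.degree η = 1).card)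
    (hnon : ∀ θ : IrrCharacter K, Char.degree θ ≠ 1 →
      (2 * Char.degree θ + 1) * Fintype.card E + 1 <
        ∑ η ∈ univ.filter (fun η : IrrCharacter K => Char.degree η < Char.degree θ),
          Char.degree η ^ 2) :
    ∃ χ : IrrCharacter G, (∀ k ∈ commutator K, χ.1 k = χ.1 1) ∧ ∃ g : G, χ.1 g ≠ χ.1 1 := by
  classical
  have hfree := free_conjAct h
  set P := fun θ η => (mult (conjAct h) θ η : ℤ) with hPdef
  set M := fun θ χ => (resMult K θ χ : ℤ) with hMdef
  set d := Fintype.card E with hd_def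
  have hd0 : 0 < d := Fintype.card_pos
  have key := fun θ θ' η => sum_coef_mul_resMult (G := G) h θ θ' η
  set one := Char.trivialChar K with hone_def
  have hP1 : ∀ θ, θ ≠ one → ∀ η, mult (conjAct h) θ η = 0 ∨ mult (conjAct h) θ η = 1 := fun θ hθ η => by
    have := mult_le_one hfree hθ η; omega
  -- representatives of the orbits of linear characters
  set L := (univ.filter fun η : IrrCharacter K => Char.degree η = 1).erase one with hL
  set 𝒮 := L.powerset.filter fun R => ∀ i ∈ R, ∀ j ∈ R, i ≠ j → mult (conjAct h) i j = 0 with h𝒮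
  obtain ⟨R, hR, hRmax⟩ := exists_max_image 𝒮 Finset.card ⟨∅, by simp [h𝒮]⟩
  simp only [h𝒮, mem_filter, mem_powerset] at hR hRmax
  have hRL : ∀ θ ∈ R, θ ≠ one ∧ Char.degree θ = 1 := fun θ hθ => by
    have := hR.1 hθ
    rw [hL, mem_erase, mem_filter] at this
    exact ⟨this.1, this.2.2⟩
  have hcover : ∀ σ ∈ L, ∃ j ∈ R, mult (conjAct h) j σ ≠ 0 := by
    intro σ hσ
    by_contra hcon
    push Not at hcon
    have hσ1 : σ ≠ one := (mem_erase.1 hσ).1
    have hσR : σ ∉ R := fun hm => by
      have := hcon σ hm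
      rw [mult_self hfree hσ1] at this
      omega
    have := hRmax (insert σ R) ⟨insert_subset hσ hR.1, ?_⟩
    · rw [card_insert_of_notMem hσR] at this; omega
    intro i hi j hj hij
    rcases mem_insert.1 hi with ei | hi <;> rcases mem_insert.1 hj with ej | hj
    · exact absurd (ei.trans ej.symm) hij
    · rw [ei, mult_comm]; exact hcon j hj
    · rw [ej]; exact hcon i hi
    · exact hR.2 i hi j hj hij
  have hRbig : 2 * d + 3 ≤ R.card := by
    have hsub : L ⊆ R.biUnion fun j => univ.filter fun η => mult (conjAct h) j η ≠ 0 := fun σ hσ => by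
      obtain ⟨j, hj, hm⟩ := hcover σ hσ
      exact mem_biUnion.2 ⟨j, hj, mem_filter.2 ⟨mem_univ _, hm⟩⟩
    have h1 := (card_le_card hsub).trans card_biUnion_le
    rw [sum_congr rfl fun j hj => card_mult_ne_zero hfree (hRL j hj).1, sum_const, smul_eq_mul,
      hL, card_erase_of_mem (show one ∈ (univ.filter fun η : IrrCharacter K => Char.degree η = 1) from
        mem_filter.2 ⟨mem_univ _, degree_trivial⟩)] at h1
    have h2 : d * (2 * d + 3) ≤ R.card * d := by rw [← hd_def] at h1; omega
    rw [mul_comm] at h2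
    exact Nat.le_of_mul_le_mul_right h2 hd0
  obtain ⟨θ₁, hθ₁⟩ := card_pos.1 (show 0 < R.card by omega)
  obtain ⟨hθ₁1, hθ₁d⟩ := hRL θ₁ hθ₁
  have hθ₁self : mult (conjAct h) θ₁ θ₁ = 1 := mult_self hfree hθ₁1
  -- the star of the differences of the linear representatives
  set S := R.erase θ₁ with hS
  have hScard : 2 * d + 2 ≤ S.card := by rw [hS, card_erase_of_mem hθ₁]; omega
  have hSmem : ∀ i ∈ S, i ∈ R ∧ i ≠ θ₁ := fun i hi => ⟨mem_of_mem_erase hi, ne_of_mem_erase hi⟩
  obtain ⟨a₁, ε, ac, hε, hac1, hacinj, hw⟩ := exists_star S (by omega)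
    (fun i => coef K θ₁ i) (fun χ => (Char.degree χ : ℤ)) (fun χ => by exact_mod_cast Char.degree_pos χ)
    (fun i _ => sum_coef_mul_degree θ₁ i)
    (fun i hi => by
      obtain ⟨hiR, hine⟩ := hSmem i hi
      obtain ⟨hi1, hid⟩ := hRL i hiR
      simp only [sq]
      rw [sum_coef_mul_coef h, mult_self hfree hi1, hθ₁self, hR.2 θ₁ hθ₁ i hiR hine.symm,
        hR.2 i hiR θ₁ hθ₁ hine, hid, hθ₁d]
      norm_num)
    (fun i hi j hj hij => by
      obtain ⟨hiR, hine⟩ := hSmem i hi
      obtain ⟨hjR, hjne⟩ := hSmem j hj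
      rw [sum_coef_mul_coef h, hθ₁self, hR.2 i hiR j hjR hij, hR.2 i hiR θ₁ hθ₁ hine,
        hR.2 θ₁ hθ₁ j hjR hjne.symm, (hRL i hiR).2, (hRL j hjR).2, hθ₁d]
      norm_num)
  have hrel : ∀ i ∈ S, ∀ η, ε * (M η a₁ - M η (ac i)) = P θ₁ η - P i η := by
    intro i hi η
    have h1 := key θ₁ i η
    rw [(hRL i (hSmem i hi).1).2, hθ₁d, Nat.cast_one, one_mul, one_mul] at h1
    simp only [hw i hi, mul_assoc, ← Finset.mul_sum, sub_mul, ite_mul, one_mul, zero_mul,
      Finset.sum_sub_distrib, Finset.sum_ite_eq', mem_univ, if_true] at h1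
    exact h1
  have hε2 : ε * ε = 1 := by rcases hε with rfl | rfl <;> norm_num
  set T := insert a₁ (S.image ac) with hT
  have hTcard : T.card = S.card + 1 := by
    rw [hT, card_insert_of_notMem, card_image_of_injOn fun a ha b hb e => hacinj a ha b hb e]
    simp only [mem_image, not_exists, not_and]
    exact fun i hi => hac1 i hi
  -- the trivial character of `K` does not occur
  have hz : ∀ x ∈ T, M one x = M one a₁ := by
    intro x hx
    rcases mem_insert.1 hx with rfl | hx
    · rfl
    obtain ⟨i, hi, rfl⟩ := mem_image.1 hx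
    have h1 := hrel i hi one
    rw [show P θ₁ one = 0 from Int.natCast_eq_zero.2 (mult_trivial_right h hθ₁1),
      show P i one = 0 from Int.natCast_eq_zero.2 (mult_trivial_right h (hRL i (hSmem i hi).1).1),
      sub_zero] at h1
    rcases mul_eq_zero.1 h1 with e | e
    · simp [e] at hε
    · exact (sub_eq_zero.1 e).symm
  have hz0 : M one a₁ = 0 := by
    by_contra hne
    have h1 : (T.card : ℤ) ≤ ∑ x ∈ T, M one x ^ 2 := by
      rw [sum_congr rfl fun x hx => by rw [hz x hx], sum_const, nsmul_eq_mul]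
      exact le_mul_of_one_le_right (Nat.cast_nonneg _) (by nlinarith [mul_self_pos.2 hne])
    have h2 : ∑ x ∈ T, M one x ^ 2 ≤ 2 * (d : ℤ) := by
      rw [← sum_resMult_trivial_sq h]
      exact sum_le_univ_sum_of_nonneg fun x => sq_nonneg _
    rw [hTcard] at h1
    push_cast at h1
    have : ((2 * d + 2 : ℕ) : ℤ) ≤ S.card := by exact_mod_cast hScard
    push_cast at this
    omega
  have hT0 : Char.trivialChar G ∉ T := fun hm => by
    have := hz _ hm
    simp only [hMdef, resMult_trivial_trivial, hone_def] at this hz0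
    rw [hz0] at this
    norm_num at this
  -- the value of the linear base at the centre of the star
  have hc : ∀ x ∈ S.image ac, M θ₁ x = M θ₁ a₁ - ε := by
    intro x hx
    obtain ⟨i, hi, rfl⟩ := mem_image.1 hx
    obtain ⟨hiR, hine⟩ := hSmem i hi
    have h1 := hrel i hi θ₁
    simp only [hPdef, hθ₁self, hR.2 i hiR θ₁ hθ₁ hine, Nat.cast_one, Nat.cast_zero, sub_zero] at h1
    have h2 : ε * (ε * (M θ₁ a₁ - M θ₁ (ac i))) = ε := by rw [h1, mul_one]
    rw [← mul_assoc, hε2, one_mul] at h2
    linarith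
  have hy : ∑ χ : IrrCharacter G, coef K one θ₁ χ ^ 2 = (d : ℤ) + 1 := by
    simp only [sq]
    rw [sum_coef_mul_coef h, mult_trivial, mult_trivial, if_pos rfl, if_neg hθ₁1,
      mult_trivial_right h hθ₁1, hθ₁self, degree_trivial, hθ₁d]
    push_cast
    ring
  have hc0 : M θ₁ a₁ = ε := by
    by_contra hne
    have hval : ∀ x, coef K one θ₁ x = M one x - M θ₁ x := fun x => by
      simp only [coef, hMdef, hθ₁d, hone_def, degree_trivial]; push_cast; ring
    have hne0 : (M θ₁ a₁ - ε) ≠ 0 := sub_ne_zero.2 hne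
    have hnotin : Char.trivialChar G ∉ S.image ac := fun hm => hT0 (mem_insert_of_mem hm)
    have h1 : (S.card : ℤ) + 1 ≤ ∑ x ∈ insert (Char.trivialChar G) (S.image ac),
        coef K one θ₁ x ^ 2 := by
      rw [sum_insert hnotin, hval]
      have e1 : M one (Char.trivialChar G) = 1 := by simp [hMdef, hone_def, resMult_trivial_trivial]
      have e2 : M θ₁ (Char.trivialChar G) = 0 := by
        simp [hMdef, resMult_trivial_of_ne hθ₁1]
      rw [e1, e2, sub_zero, one_pow]
      have e3 : ∀ x ∈ S.image ac, coef K one θ₁ x ^ 2 = (M θ₁ a₁ - ε) ^ 2 := fun x hx => by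
        rw [hval, hz x (mem_insert_of_mem hx), hz0, hc x hx]; ring
      rw [sum_congr rfl e3, sum_const, card_image_of_injOn fun a ha b hb e => hacinj a ha b hb e,
        nsmul_eq_mul]
      have : (1 : ℤ) ≤ (M θ₁ a₁ - ε) ^ 2 := by nlinarith [mul_self_pos.2 hne0]
      have := le_mul_of_one_le_right (Nat.cast_nonneg (α := ℤ) S.card) this
      linarith
    have h2 : ∑ x ∈ insert (Char.trivialChar G) (S.image ac), coef K one θ₁ x ^ 2 ≤ (d : ℤ) + 1 := by
      rw [← hy]
      exact sum_le_univ_sum_of_nonneg fun x => sq_nonneg _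
    have : ((2 * d + 2 : ℕ) : ℤ) ≤ S.card := by exact_mod_cast hScard
    push_cast at this
    omega
  have hε1 : ε = 1 := by
    rcases hε with e | e
    · exact e
    · exfalso
      have : (0 : ℤ) ≤ M θ₁ a₁ := Nat.cast_nonneg _
      omega
  subst hε1
  -- all characters of `K`
  have good : ∀ f, ∀ σ : IrrCharacter K, σ ≠ one → Char.degree σ = f →
      M σ a₁ = P θ₁ σ ∧ ∃ b, ∀ x, coef K θ₁ σ x =
        (f : ℤ) * (if x = a₁ then 1 else 0) - (if x = b then 1 else 0) := by
    intro f
    induction f using Nat.strong_induction_on with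
    | _ f ih =>
    intro σ hσ hσf
    by_cases hf1 : f = 1
    · subst hf1
      obtain ⟨j, hj, hm⟩ := hcover σ (mem_erase.2 ⟨hσ, mem_filter.2 ⟨mem_univ _, hσf⟩⟩)
      obtain ⟨hj1, hjd⟩ := hRL j hj
      have hm1 : mult (conjAct h) j σ = 1 := (hP1 j hj1 σ).resolve_left hm
      have hsum : ∑ χ : IrrCharacter G, coef K j σ χ ^ 2 = 0 := by
        simp only [sq]
        rw [sum_coef_mul_coef h, mult_self hfree hj1, mult_self hfree hσ, mult_comm _ σ j, hm1,
          hjd, hσf]
        norm_num
      have hMeq : ∀ x, M σ x = M j x := fun x => by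
        have := (sum_eq_zero_iff_of_nonneg fun χ _ => sq_nonneg _).1 hsum x (mem_univ x)
        simp only [coef, hjd, hσf, Nat.cast_one, one_mul, sq_eq_zero_iff, sub_eq_zero] at this
        exact this.symm
      have hcoef : ∀ x, coef K θ₁ σ x = M θ₁ x - M j x := fun x => by
        simp only [coef, hσf, hθ₁d, Nat.cast_one, one_mul]
        show M θ₁ x - M σ x = _
        rw [hMeq x]
      rcases eq_or_ne j θ₁ with rfl | hjne
      · refine ⟨?_, a₁, fun x => ?_⟩
        · rw [hMeq, hc0]
          simp only [hPdef, hm1, Nat.cast_one]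
        · rw [hcoef]; ring
      · have hjS : j ∈ S := mem_erase.2 ⟨hjne, hj⟩
        have hj' : ∀ x, M θ₁ x - M j x = (if x = a₁ then 1 else 0) - (if x = ac j then 1 else 0) :=
          fun x => by
            have h1 := hw j hjS x
            simp only [coef, hjd, hθ₁d, Nat.cast_one, one_mul] at h1
            exact h1
        refine ⟨?_, ac j, fun x => ?_⟩
        · have h1 := hj' a₁
          rw [if_pos rfl, if_neg (hac1 j hjS).symm, hc0] at h1
          have h2 : mult (conjAct h) θ₁ σ = 0 := by
            by_contra hm'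
            have hm'' := (hP1 θ₁ hθ₁1 σ).resolve_left hm'
            have h3 : 1 ≤ mult (conjAct h) θ₁ j := by
              obtain ⟨e, he⟩ := exists_of_mult_ne_zero hm'
              obtain ⟨e', he'⟩ := exists_of_mult_ne_zero (show mult (conjAct h) σ j ≠ 0 by
                rw [mult_comm, hm1]; omega)
              refine one_le_mult (e := e * e') ?_
              rw [twist_mul, he, he']
            rw [hR.2 θ₁ hθ₁ j hj hjne.symm] at h3
            omega
          rw [hMeq]
          simp only [hPdef, h2, Nat.cast_zero]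
          linarith
        · rw [hcoef, hj', Nat.cast_one, one_mul]
    · set 𝒜 := (univ.filter fun η : IrrCharacter K => Char.degree η < f).erase one with h𝒜
      have hmem : ∀ τ ∈ 𝒜, τ ≠ one ∧ Char.degree τ < f := fun τ hτ => by
        rw [h𝒜, mem_erase, mem_filter] at hτ; exact ⟨hτ.1, hτ.2.2⟩
      have hg := fun τ : {τ // τ ∈ 𝒜} => ih _ (hmem τ.1 τ.2).2 τ.1 (hmem τ.1 τ.2).1 rfl
      choose hga b hb using hg
      have hrelb : ∀ τ : {τ // τ ∈ 𝒜}, ∀ η, (Char.degree τ.1 : ℤ) * M η a₁ - M η (b τ) =
          (Char.degree τ.1 : ℤ) * P θ₁ η - P τ.1 η := by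
        intro τ η
        have h1 := key θ₁ τ.1 η
        rw [hθ₁d, Nat.cast_one, one_mul] at h1
        simp only [hb τ, sub_mul, mul_assoc, ← Finset.mul_sum, Finset.sum_sub_distrib, ite_mul,
          one_mul, zero_mul, Finset.sum_ite_eq', mem_univ, if_true] at h1
        exact h1
      set u := coef K θ₁ σ with hu
      have hu_eq : ∀ x, u x = (f : ℤ) * M θ₁ x - M σ x := fun x => by
        simp only [hu, coef, hMdef, hσf, hθ₁d, Nat.cast_one, one_mul]
      have hPσθ : mult (conjAct h) θ₁ σ = 0 := mult_eq_zero_of_degree (by omega)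
      have hunorm : ∑ χ, u χ ^ 2 = (f : ℤ) ^ 2 + 1 := by
        simp only [hu, sq]
        rw [sum_coef_mul_coef h, hθ₁self, mult_self hfree hσ, hPσθ, mult_comm _ σ θ₁, hPσθ, hσf,
          hθ₁d]
        push_cast
        ring
      set m := M σ a₁ with hm_def
      have hub : ∀ τ : {τ // τ ∈ 𝒜}, u (b τ) = (f : ℤ) * P τ.1 θ₁ - (Char.degree τ.1 : ℤ) * m := by
        intro τ
        have e1 := hrelb τ θ₁
        have e2 := hrelb τ σ
        simp only [hPdef, hθ₁self, Nat.cast_one, hc0] at e1
        simp only [hPdef, hPσθ, mult_eq_zero_of_degree (ρ := conjAct h) (θ := τ.1) (η := σ)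
          (by have := (hmem τ.1 τ.2).2; omega), Nat.cast_zero, mul_zero, sub_zero] at e2
        rw [hu_eq, show M θ₁ (b τ) = P τ.1 θ₁ by simp only [hPdef]; linarith,
          show M σ (b τ) = (Char.degree τ.1 : ℤ) * m by rw [hm_def]; linarith]
      have hfib : ∀ x, ((univ : Finset {τ // τ ∈ 𝒜}).filter fun τ => b τ = x).card ≤ d := by
        intro x
        by_cases hex : ∃ τ₀, b τ₀ = x
        · obtain ⟨τ₀, hτ₀⟩ := hex
          refine le_trans (card_le_card_of_injOn Subtype.val (fun τ hτ => ?_)
            (fun a _ c _ e => Subtype.ext e)) (card_mult_ne_zero hfree (hmem τ₀.1 τ₀.2).1).le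
          have hτx : b τ = b τ₀ := (mem_filter.1 hτ).2.trans hτ₀.symm
          refine mem_filter.2 ⟨mem_univ _, fun hzero => ?_⟩
          have e1 := hrelb τ₀ τ₀.1
          have e2 := hrelb τ τ₀.1
          simp only [hPdef, hga τ₀, mult_self hfree (hmem τ₀.1 τ₀.2).1] at e1 e2
          rw [hτx, mult_comm _ τ.1, hzero] at e2
          push_cast at e1 e2
          omega
        · push Not at hex
          rw [filter_false_of_mem fun τ _ => hex τ, card_empty]
          omega
      have hbound : ∑ τ : {τ // τ ∈ 𝒜}, u (b τ) ^ 2 ≤ (d : ℤ) * ((f : ℤ) ^ 2 + 1) := by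
        rw [← hunorm, Finset.mul_sum, ← Finset.sum_fiberwise univ b]
        refine sum_le_sum fun x _ => ?_
        rw [sum_congr rfl fun τ hτ => by rw [(mem_filter.1 hτ).2], sum_const, nsmul_eq_mul]
        exact mul_le_mul_of_nonneg_right (by exact_mod_cast hfib x) (sq_nonneg _)
      rw [univ_eq_attach] at hbound
      rw [sum_congr rfl fun τ _ => by rw [hub τ]] at hbound
      rw [sum_attach 𝒜 (fun τ => ((f : ℤ) * P τ θ₁ - (Char.degree τ : ℤ) * m) ^ 2)] at hbound
      have hsumP : ∑ τ ∈ 𝒜, P τ θ₁ = (d : ℤ) := by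
        rw [hd_def, ← card_mult_ne_zero hfree hθ₁1]
        simp only [hPdef]
        rw [← sum_boole, ← sum_subset (subset_univ 𝒜) fun τ _ hτ => if_neg fun hτm => hτ ?_]
        · refine sum_congr rfl fun τ hτ => ?_
          rw [mult_comm]
          rcases hP1 θ₁ hθ₁1 τ with e | e <;> simp [e]
        · have hdeg := degree_eq_of_mult hτm
          refine mem_erase.2 ⟨fun e => ?_, mem_filter.2 ⟨mem_univ _, ?_⟩⟩
          · rw [e, mult_trivial_right h hθ₁1] at hτm; exact hτm rfl
          · rw [← hdeg, hθ₁d]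
            have := Char.degree_pos σ
            omega
      have hexp : ∀ τ ∈ 𝒜, ((f : ℤ) * P τ θ₁ - (Char.degree τ : ℤ) * m) ^ 2 =
          (f : ℤ) ^ 2 * P τ θ₁ - 2 * f * m * P τ θ₁ + m ^ 2 * ((Char.degree τ ^ 2 : ℕ) : ℤ) := by
        intro τ hτ
        rcases hP1 τ (hmem τ hτ).1 θ₁ with e | e
        · simp only [hPdef, e]; push_cast; ring
        · have hdeg := degree_eq_of_mult (show mult (conjAct h) τ θ₁ ≠ 0 by omega)
          rw [hθ₁d] at hdeg
          simp only [hPdef, e, hdeg]; push_cast; ring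
      rw [sum_congr rfl hexp, sum_add_distrib, sum_sub_distrib, ← Finset.mul_sum, ← Finset.mul_sum,
        ← Finset.mul_sum, hsumP, ← Nat.cast_sum] at hbound
      have hQ : ((2 * f + 1) * d : ℕ) < ∑ τ ∈ 𝒜, Char.degree τ ^ 2 := by
        have h1 := hnon σ (by omega)
        rw [hσf] at h1
        rw [← add_sum_erase _ (fun η => Char.degree η ^ 2) (a := one) (mem_filter.2 ⟨mem_univ _, by
          rw [hone_def, degree_trivial]; have := Char.degree_pos σ; omega⟩), ← h𝒜] at h1
        simp only [hone_def, degree_trivial, one_pow] at h1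
        omega
      have hm0 : m = 0 := by
        by_contra hne
        have hm1 : 1 ≤ m := by
          have : (0 : ℤ) ≤ m := Nat.cast_nonneg _
          omega
        have hQ' : ((2 * (f : ℤ) + 1) * d) < ((∑ τ ∈ 𝒜, Char.degree τ ^ 2 : ℕ) : ℤ) := by
          exact_mod_cast hQ
        have h1 : m ^ 2 * ((2 * (f : ℤ) + 1) * d) < m ^ 2 * ((∑ τ ∈ 𝒜, Char.degree τ ^ 2 : ℕ) : ℤ) :=
          mul_lt_mul_of_pos_left hQ' (by positivity)
        nlinarith [mul_nonneg (mul_nonneg (sub_nonneg.2 hm1) (Nat.cast_nonneg (α := ℤ) d))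
          (Nat.cast_nonneg (α := ℤ) f), mul_nonneg (sub_nonneg.2 hm1) (Nat.cast_nonneg (α := ℤ) d)]
      refine ⟨?_, ?_⟩
      · show m = _
        simp only [hm0, hPdef, hPσθ, Nat.cast_zero]
      have hua : u a₁ = (f : ℤ) := by rw [hu_eq, hc0, ← hm_def, hm0]; ring
      have hrest : ∑ x ∈ univ.erase a₁, u x ^ 2 = 1 := by
        rw [← add_sum_erase univ (fun x => u x ^ 2) (mem_univ a₁), hua] at hunorm
        linarith
      obtain ⟨b₀, hb₀m, hb₀⟩ : ∃ x ∈ univ.erase a₁, u x ≠ 0 := by
        by_contra hcon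
        push Not at hcon
        rw [sum_eq_zero fun x hx => by rw [hcon x hx]; ring] at hrest
        norm_num at hrest
      have hothers : ∀ x, x ≠ a₁ → x ≠ b₀ → u x = 0 := by
        intro x hx hxb
        by_contra hne
        have h2 : ∑ y ∈ ({x, b₀} : Finset _), u y ^ 2 ≤ 1 := by
          rw [← hrest]
          refine sum_le_sum_of_subset_of_nonneg (fun y hy => ?_) fun _ _ _ => sq_nonneg _
          rcases mem_insert.1 hy with rfl | hy
          · exact mem_erase.2 ⟨hx, mem_univ _⟩
          · rw [mem_singleton.1 hy]; exact hb₀m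
        rw [sum_pair hxb] at h2
        nlinarith [mul_self_pos.2 hne, mul_self_pos.2 hb₀]
      have hb₀a : b₀ ≠ a₁ := (mem_erase.1 hb₀m).1
      have hub₀ : u b₀ * u b₀ = 1 := by
        rw [sum_eq_single b₀ (fun y hy hyb => by rw [hothers y (mem_erase.1 hy).1 hyb]; ring)
          (fun hn => absurd hb₀m hn)] at hrest
        rw [← hrest]; ring
      have hdeg := sum_coef_mul_degree (G := G) θ₁ σ
      rw [← hu, ← sum_subset (subset_univ ({a₁, b₀} : Finset _)) (fun x _ hx => by
        simp only [mem_insert, mem_singleton, not_or] at hx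
        rw [hothers x hx.1 hx.2, zero_mul]), sum_pair hb₀a.symm, hua] at hdeg
      have hD1 : (0 : ℤ) < Char.degree a₁ := by exact_mod_cast Char.degree_pos a₁
      have hDb : (0 : ℤ) < Char.degree b₀ := by exact_mod_cast Char.degree_pos b₀
      have hf0 : (0 : ℤ) < f := by rw [← hσf]; exact_mod_cast Char.degree_pos σ
      have hneg : u b₀ = -1 := by
        rcases mul_self_eq_one_iff.1 hub₀ with e | e
        · rw [e] at hdeg; nlinarith
        · exact e
      refine ⟨b₀, fun x => ?_⟩
      by_cases hxa : x = a₁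
      · subst hxa
        rw [if_pos rfl, if_neg hb₀a.symm, hua]; ring
      by_cases hxb : x = b₀
      · subst hxb
        rw [if_neg hxa, if_pos rfl, hneg]; ring
      rw [if_neg hxa, if_neg hxb, hothers x hxa hxb]; ring
  -- the conclusion
  have hlinonly : ∀ η : IrrCharacter K, Char.degree η ≠ 1 → resMult K η a₁ = 0 := by
    intro η hη
    have hη1 : η ≠ one := fun e => hη (by rw [e, hone_def, degree_trivial])
    have h1 := (good _ η hη1 rfl).1
    simp only [hPdef, mult_eq_zero_of_degree (ρ := conjAct h) (θ := θ₁) (η := η) (by omega),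
      hMdef, Nat.cast_zero] at h1
    exact_mod_cast h1
  refine ⟨a₁, fun k hk => ?_, ?_⟩
  · have hres := Char.eq_sum_classInner_smul (f := fun x : K => a₁.1 (x : G))
      (fun x y => Char.IsCharacter.isClassFunction
        (Char.IsCharacter.restrict (Char.irr_isCharacter a₁) K) x y)
    have hk' := congrFun hres k
    have h1 := congrFun hres 1
    simp only [Finset.sum_apply, Pi.smul_apply, Subgroup.coe_one] at hk' h1
    rw [hk', h1]
    refine Finset.sum_congr rfl fun η _ => ?_
    by_cases hη : Char.degree η = 1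
    · obtain ⟨lam, hl⟩ := Char.IsCharacter.exists_monoidHom (Char.irr_isCharacter η)
        (by rw [Char.apply_one_eq_degree, hη, Nat.cast_one])
      rw [← hl, map_one, (Abelianization.commutator_subset_ker lam.toHomUnits hk : _) |> fun e =>
        show lam k = 1 from congrArg Units.val (MonoidHom.mem_ker.1 e)]
    · rw [resMult_eq, hlinonly η hη, Nat.cast_zero, zero_smul, zero_smul]
  · by_contra hcon
    push Not at hcon
    have h1 := resMult_eq θ₁ a₁
    have e : (fun x : K => a₁.1 x) = a₁.1 1 • (Char.trivialChar K).1 := funext fun x => by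
      rw [Pi.smul_apply, Char.trivialChar_apply, smul_eq_mul, mul_one, hcon]
    rw [e, Char.classInner_smul_left,
      Char.classInner_irr_of_ne (Char.trivialChar K).2 θ₁.2 (fun e' => hθ₁1 (Subtype.ext e'.symm)),
      mul_zero] at h1
    simp only [hMdef] at hc0
    have : ((resMult K θ₁ a₁ : ℤ) : ℂ) = 1 := by rw [hc0, Int.cast_one]
    rw [Int.cast_natCast, ← h1] at this
    exact zero_ne_one this

end Main

end Cfsg.Agent.ZassenhausFeit
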