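import Mathlib
import Cfsg.Agent.Lib.CharInt.Basic
import Cfsg.Agent.Lib.CharInt.FrobeniusKernel
import Cfsg.Agent.Lib.PComplement.FixedPointFree
import Cfsg.Agent.Lib.ZassenhausOdd.Abelian
import Cfsg.Agent.Lib.ZassenhausFeit.Split
import Cfsg.Agent.Lib.ZassenhausFeit.Coherence

/-!
# Feit's theorem on the degree of a simple Zassenhaus group

For a two-point stabiliser of odd order the kernel of a point stabiliser is a `p`-group: otherwise
coherence gives an irreducible character of `G` whose kernel contains the derived group of the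
kernel, so the latter is abelian, and then `|Ω| - 2 ∣ 2 d`, which is impossible.
-/

set_option autoImplicit false
set_option linter.unusedSectionVars false
set_option linter.style.haveILetI false

namespace Cfsg.Agent.ZassenhausFeit

open MulAction Cfsg.Agent.ZassenhausOdd
open scoped Pointwise commutatorElement

universe u v

variable {G : Type u} {Ω : Type v} [Group G] [Finite G] [MulAction G Ω] [Fintype Ω]
variable (hZ : Cfsg.IsZassenhausGroup G Ω) {a b : Ω} (hab : a ≠ b)
include hZ hab

theorem isFrobeniusComplement_twoStab :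
    Cfsg.IsFrobeniusComplement ((twoStab G a b).subgroupOf (stabilizer G a)) := by
  classical
  set S := stabilizer G a
  set E : Subgroup S := (twoStab G a b).subgroupOf S with hE
  have hcardE : Nat.card E = Nat.card (twoStab G a b) :=
    Nat.card_congr (Subgroup.subgroupOfEquivOfLe inf_le_left).toEquiv
  refine ⟨fun h => ?_, fun h => ?_, fun g hg => ?_⟩
  · have := twoStab_nontrivial hZ hab
    rw [← hcardE, h, Subgroup.card_bot] at this
    exact lt_irrefl _ this
  · have h1 := card_stabilizer hZ hab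
    have h2 : Nat.card E = Nat.card S := by rw [h, Subgroup.card_top]
    rw [hcardE, h1] at h2
    have := Perm.Zass.three_le hZ
    have hpos : 0 < Nat.card (twoStab G a b) := Nat.card_pos
    have : 2 * Nat.card (twoStab G a b) ≤ (Fintype.card Ω - 1) * Nat.card (twoStab G a b) :=
      Nat.mul_le_mul_right _ (by omega)
    omega
  · rw [eq_bot_iff]
    rintro x ⟨hx, hxg⟩
    rw [Subgroup.mem_bot]
    by_contra hx1
    change x ∈ MulAut.conj g • E at hxg
    rw [Coprime.mem_conj_smul_iff] at hxg
    apply hg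
    have h1 := pair_of_conj_mem hZ hab (g := (g : G)) (x := (x : G)) hx
      (fun h => hx1 (Subtype.ext h)) hxg
    refine ⟨g.2, ?_⟩
    rcases h1.2 with h | h
    · exact absurd (smul_left_cancel (g : G) (h.trans (mem_stabilizer_iff.1 g.2).symm)) hab.symm
    · exact h

/-- The kernel of a point stabiliser. -/
theorem exists_kernel : ∃ H : Subgroup G, H ≤ stabilizer G a ∧ Nat.card H + 1 = Fintype.card Ω ∧
    ∀ u ∈ H, u ≠ 1 → ∀ c : Ω, u • c = c → c = a := by
  classical
  have hF := isFrobeniusComplement_twoStab hZ hab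
  obtain ⟨K, hK, -, hKc⟩ := CharInt.exists_frobeniusKernel hF
  refine ⟨K.map (stabilizer G a).subtype, Subgroup.map_subtype_le _, ?_, ?_⟩
  · have h1 := hKc.card_mul_card
    have h2 : Nat.card ((twoStab G a b).subgroupOf (stabilizer G a)) = Nat.card (twoStab G a b) :=
      Nat.card_congr (Subgroup.subgroupOfEquivOfLe inf_le_left).toEquiv
    rw [h2, card_stabilizer hZ hab] at h1
    rw [Subgroup.card_subtype, Nat.eq_of_mul_eq_mul_right Nat.card_pos h1]
    have := Perm.Zass.three_le hZ
    omega
  · rintro u ⟨s, hs, rfl⟩ hu1 c hc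
    by_contra hca
    have hs1 : s ≠ 1 := fun h => hu1 (by rw [h, map_one])
    have hsk : s ∈ Cfsg.frobeniusKernel ((twoStab G a b).subgroupOf (stabilizer G a)) := hK ▸ hs
    rw [Frobenius.mem_kernel_iff hs1] at hsk
    obtain ⟨t, hta, htb⟩ := Perm.Zass.two_trans hZ hab (Ne.symm hca)
    refine hsk ⟨t, hta⟩ (Subgroup.mem_subgroupOf.2 (mem_twoStab.2 ⟨?_, ?_⟩))
    · exact (((⟨t, hta⟩ : stabilizer G a))⁻¹ * s * ⟨t, hta⟩ : stabilizer G a).2
    · show (t⁻¹ * (s : G) * t) • b = b
      rw [mul_smul, mul_smul, htb, show (s : G) • c = c from hc, inv_smul_eq_iff, htb]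

variable {H : Subgroup G} (hHa : H ≤ stabilizer G a) (hHcard : Nat.card H + 1 = Fintype.card Ω)
  (hHfix : ∀ u ∈ H, u ≠ 1 → ∀ c : Ω, u • c = c → c = a)
include hHa hHcard hHfix

theorem setup_of_zassenhaus : Setup H (twoStab G a b) := by
  classical
  letI := Fintype.ofFinite G
  have hmeet : ∀ x ∈ H, x • b = b → x = 1 := fun x hx hxb =>
    by_contra fun hne => hab.symm (hHfix x hx hne b hxb)
  refine ⟨fun e he k hk => kernel_conj hZ hHa hHcard hHfix he.1 hk, fun g k hk hk1 hg => ?_,
    fun u hu e he k hk hk1 hcomm => ?_, ?_, ?_⟩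
  · have hga : g • a = a := by
      have h := smul_eq_of_conj_mem hZ hHa hHcard hHfix (g := g⁻¹) hk hk1 (by rwa [inv_inv])
      exact (inv_smul_eq_iff.1 h).symm
    have hgb : g • b ≠ a := fun h => hab.symm (smul_left_cancel g (h.trans hga.symm))
    obtain ⟨u, hu, hub⟩ := exists_kernel_smul hZ hab hHa hHcard hHfix hgb
    refine ⟨u, hu, u⁻¹ * g, mem_twoStab.2 ⟨?_, ?_⟩, by group⟩
    · rw [mul_smul, hga, inv_smul_eq_iff]; exact (hHa hu).symm
    · rw [mul_smul, inv_smul_eq_iff, hub]
  · by_contra hnon
    apply hnon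
    have hga : (u * e) • a = a := by rw [mul_smul, he.1, hHa hu]
    have hgH : u * e ∈ H := by
      refine mem_kernel_of_fix_only hZ hHa hHcard hHfix hga fun c hc => ?_
      by_contra hca
      have h2 : (u * e) • (k • c) = k • c := by rw [← mul_smul, hcomm.eq, mul_smul, hc]
      have hkc : k • c ≠ c := fun h => hca (hHfix k hk hk1 c h)
      have hkca : k • c ≠ a := fun h => hca (smul_left_cancel k (h.trans (hHa hk).symm))
      have hone := Perm.Zass.eq_one_of_three hZ (Ne.symm hca) (Ne.symm hkc) (Ne.symm hkca) hga hc h2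
      have heH : e ∈ H := by
        rw [eq_inv_of_mul_eq_one_right hone]; exact H.inv_mem hu
      exact hnon (hmeet e heH he.2)
    refine hmeet e ?_ he.2
    have := H.mul_mem (H.inv_mem hu) hgH
    rwa [inv_mul_cancel_left] at this
  · rw [eq_bot_iff]
    exact fun x hx => Subgroup.mem_bot.2 (hmeet x hx.1 hx.2.2)
  · rw [card_group hZ hab, ← hHcard, Nat.add_sub_cancel]

theorem isPrimePow_card_kernel [IsSimpleGroup G] (hodd : Odd (Nat.card (twoStab G a b))) :
    IsPrimePow (Nat.card H) := by
  classical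
  letI := Fintype.ofFinite G
  by_contra hnpp
  have h3 := Perm.Zass.three_le hZ
  have hH : 1 < Nat.card H := by omega
  have hperf : commutator G = ⊤ := commutator_eq_top hZ
  have hs := setup_of_zassenhaus hZ hab hHa hHcard hHfix
  set E := twoStab G a b
  letI := Fintype.ofFinite H
  letI := Fintype.ofFinite E
  have hcardE : Fintype.card E = Nat.card E := (Nat.card_eq_fintype_card).symm
  have hd : 1 < Fintype.card E := hcardE ▸ twoStab_nontrivial hZ hab
  have hdodd : Odd (Fintype.card E) := hcardE ▸ hodd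
  have hfree := free_conjAct hs
  haveI hnil : Group.IsNilpotent H := by
    obtain ⟨p, hp, hpd⟩ := Nat.exists_prime_and_dvd hd.ne'
    haveI := Fact.mk hp
    obtain ⟨e, he⟩ := exists_prime_orderOf_dvd_card p hpd
    refine PComplement.isNilpotent_of_fpf (p := p) H (conjAct hs e) ?_ fun x hx => ?_
    · rw [← map_pow, ← he, pow_orderOf_eq_one, map_one]
    · by_contra hx1
      exact hfree e (fun h => hp.ne_one (by rw [← he, h, orderOf_one])) x hx1 (by rw [hx])
  have hlin := linear_bound hfree hdodd hH hnpp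
  obtain ⟨χ, hker, g, hg⟩ := exists_linear_restriction hs hlin
    (fun θ hθ => nonlinear_bound hfree hdodd hd hH hnpp θ hθ)
  have hχ := Char.irr_isCharacter χ
  haveI := CharInt.charKernel_normal hχ
  have hbot : CharInt.charKernel hχ = ⊥ :=
    (IsSimpleGroup.eq_bot_or_eq_top_of_normal _ inferInstance).resolve_right fun h =>
      hg ((CharInt.mem_charKernel hχ).1 (h ▸ Subgroup.mem_top g))
  have hHc : ∀ u ∈ H, ∀ v ∈ H, u * v = v * u := by
    intro u hu v hv
    have hc : ⁅(⟨u, hu⟩ : H), (⟨v, hv⟩ : H)⁆ ∈ commutator H :=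
      Subgroup.commutator_mem_commutator (Subgroup.mem_top _) (Subgroup.mem_top _)
    have h1 : ((⁅(⟨u, hu⟩ : H), (⟨v, hv⟩ : H)⁆ : H) : G) ∈ CharInt.charKernel hχ :=
      (CharInt.mem_charKernel hχ).2 (hker _ hc)
    rw [hbot, Subgroup.mem_bot] at h1
    exact commutatorElement_eq_one_iff_mul_comm.1 h1
  have hdvd := dvd_two_mul_of_abelian_of_perfect hZ hperf hab hodd hHa hHcard hHfix hHc
  have hcount : (Finset.univ.filter fun η : IrrCharacter H => Char.degree η = 1).card ≤ Nat.card H := by
    rw [← sum_degree_sq H, Finset.card_eq_sum_ones]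
    refine le_trans (le_of_eq ?_) (Finset.sum_le_univ_sum_of_nonneg
      (s := Finset.univ.filter fun η : IrrCharacter H => Char.degree η = 1) fun η => Nat.zero_le _)
    exact Finset.sum_congr rfl fun η hη => by rw [(Finset.mem_filter.1 hη).2, one_pow]
  have hle := Nat.le_of_dvd (Nat.mul_pos two_pos Nat.card_pos) hdvd
  have h5 : Fintype.card E * 5 ≤ Fintype.card E * (2 * Fintype.card E + 3) :=
    Nat.mul_le_mul_left _ (by omega)
  rw [hcardE] at h5 hd hlin
  change Fintype.card Ω - 2 ≤ 2 * Nat.card E at hle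
  omega

end Cfsg.Agent.ZassenhausFeit
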