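import Mathlib
import Cfsg.Agent.Lib.Char.RealChar
import Cfsg.Agent.Lib.Char.ClassSum
import Cfsg.Agent.Lib.CharInt.Basic
import Cfsg.Agent.Lib.CharInt.Central
import Cfsg.Agent.Lib.CharInt.Congruence
import Cfsg.Agent.Lib.ZassenhausFeit.Split
import Cfsg.Agent.Lib.ZassenhausFeit.Coherence

/-!
# A non-abelian kernel of odd prime power order

If the kernel `K` is a non-abelian `p`-group, `p` odd, then the Frobenius–Schur count, the class
sum of an involution and the multiplicities on `K` give a non-real irreducible character of `G`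
which is constant on the derived group of `K`.
-/

set_option autoImplicit false
set_option linter.unusedSectionVars false
set_option linter.style.haveILetI false
set_option linter.unusedDecidableInType false
set_option linter.unusedSimpArgs false
set_option linter.unusedVariables false

namespace Cfsg.Agent.ZassenhausFeit

open Finset
open scoped ComplexConjugate

universe u

variable {G : Type u} [Group G] [Fintype G]

section Basic

variable {K E : Subgroup G} [Fintype K] [Fintype E]

theorem classInner_conjIrr_conjIrr (θ : IrrCharacter K) (χ : IrrCharacter G) :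
    resMult K (Char.conjIrr θ) (Char.conjIrr χ) = resMult K θ χ := by
  have h := resMult_eq (Char.conjIrr θ) (Char.conjIrr χ)
  have h' := congrArg (starRingEnd ℂ) (resMult_eq θ χ)
  rw [map_natCast, classInner, map_mul, map_sum, map_inv₀, map_natCast] at h'
  rw [classInner] at h
  have e : (resMult K (Char.conjIrr θ) (Char.conjIrr χ) : ℂ) = (resMult K θ χ : ℂ) := by
    rw [← h, ← h']
    congr 1
    exact sum_congr rfl fun x _ => by simp
  exact_mod_cast e

/-- The degree in terms of the multiplicities on `K`. -/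
theorem degree_eq_sum_resMult (χ : IrrCharacter G) :
    Char.degree χ = ∑ θ : IrrCharacter K, resMult K θ χ * Char.degree θ := by
  have h := congrFun (Char.eq_sum_classInner_smul (Char.IsCharacter.isClassFunction
    (Char.IsCharacter.restrict (Char.irr_isCharacter χ) K))) 1
  simp only [Subgroup.coe_one, Finset.sum_apply, Pi.smul_apply, smul_eq_mul, resMult_eq,
    Char.apply_one_eq_degree] at h
  exact_mod_cast h

/-- The restriction to `K`. -/
theorem apply_eq_sum_resMult (χ : IrrCharacter G) (k : K) :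
    χ.1 k = ∑ θ : IrrCharacter K, (resMult K θ χ : ℂ) * θ.1 k := by
  have h := congrFun (Char.eq_sum_classInner_smul (Char.IsCharacter.isClassFunction
    (Char.IsCharacter.restrict (Char.irr_isCharacter χ) K))) k
  simpa only [Finset.sum_apply, Pi.smul_apply, smul_eq_mul, resMult_eq] using h

theorem gram_trivial (h : Setup K E) {θ : IrrCharacter K} (hθ : θ ≠ Char.trivialChar K) :
    ∑ χ : IrrCharacter G, (resMult K θ χ : ℤ) * resMult K (Char.trivialChar K) χ =
      (Char.degree θ : ℤ) * Fintype.card E := by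
  classical
  have h1 := sum_coef_mul_resMult h θ (Char.trivialChar K) (Char.trivialChar K)
  rw [mult_trivial_right h hθ, mult_trivial, if_pos rfl, degree_trivial] at h1
  simp only [coef, degree_trivial, Nat.cast_one, one_mul, sub_mul, sum_sub_distrib, mul_assoc,
    ← mul_sum, ← sq] at h1
  rw [sum_resMult_trivial_sq h] at h1
  push_cast at h1
  linarith

theorem gram (h : Setup K E) {θ η : IrrCharacter K} (hθ : θ ≠ Char.trivialChar K)
    (hη : η ≠ Char.trivialChar K) :
    ∑ χ : IrrCharacter G, (resMult K θ χ : ℤ) * resMult K η χ =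
      (Fintype.card E : ℤ) * Char.degree θ * Char.degree η + mult (conjAct h) θ η := by
  classical
  have h1 := sum_coef_mul_resMult h θ (Char.trivialChar K) η
  rw [mult_trivial, if_neg hη, degree_trivial] at h1
  simp only [coef, degree_trivial, Nat.cast_one, one_mul, sub_mul, sum_sub_distrib, mul_assoc,
    ← mul_sum] at h1
  have h2 : ∑ χ : IrrCharacter G, (resMult K (Char.trivialChar K) χ : ℤ) * resMult K η χ =
      (Char.degree η : ℤ) * Fintype.card E := by
    rw [← gram_trivial h hη]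
    exact sum_congr rfl fun χ _ => mul_comm _ _
  rw [h2] at h1
  push_cast at h1
  linarith

theorem mult_conj_eq_zero {X : Type*} [Group X] [Fintype X] {F : Type*} [Group F] [Fintype F]
    {ρ : F →* MulAut X} (hρ : Free ρ) (hF : Odd (Fintype.card F)) (hX : Odd (Nat.card X))
    {θ : IrrCharacter X} (hθ : θ ≠ Char.trivialChar X) (hd : Char.degree θ = 1) :
    mult ρ θ (Char.conjIrr θ) = 0 := by
  by_contra hne
  obtain ⟨g, hg⟩ := exists_of_mult_ne_zero hne
  have hg2 : twist ρ g (Char.conjIrr θ) = θ := by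
    refine Subtype.ext (funext fun x => ?_)
    have hx := congrArg conj (congrFun (congrArg Subtype.val hg) x)
    rw [twist_apply, Char.conjIrr_apply] at hx ⊢
    simpa using hx
  have h2 : twist ρ (g * g) θ = θ := by rw [twist_mul, hg, hg2]
  have hgg := eq_one_of_twist_eq hρ hθ h2
  obtain ⟨k, hk⟩ := hF
  have hg1 : g = 1 := by
    have h3 : g ^ Fintype.card F = 1 := pow_card_eq_one
    rwa [hk, pow_succ, pow_mul, sq, hgg, one_pow, one_mul] at h3
  rw [hg1, twist_one] at hg
  exact hθ (eq_trivial_of_conj_eq hX hd hg.symm)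

theorem degree_conjIrr {X : Type*} [Group X] [Fintype X] (θ : IrrCharacter X) :
    Char.degree (Char.conjIrr θ) = Char.degree θ := by
  have h := Char.apply_one_eq_degree (Char.conjIrr θ)
  rw [Char.conjIrr_apply, Char.apply_one_eq_degree, map_natCast] at h
  exact_mod_cast h.symm

theorem conjIrr_ne_trivial {X : Type*} [Group X] [Fintype X] {θ : IrrCharacter X}
    (hθ : θ ≠ Char.trivialChar X) : Char.conjIrr θ ≠ Char.trivialChar X := fun e => hθ (by
  rw [← Char.conjIrr_conjIrr θ, e]
  exact Subtype.ext (funext fun x => by simp [Char.conjIrr_apply, Char.trivialChar_apply]))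

end Basic

section Involution

/-- The values of a character at an involution are rational integers. -/
theorem exists_int_apply {t : G} (ht : orderOf t = 2) (χ : IrrCharacter G) :
    ∃ z : ℤ, χ.1 t = z := by
  obtain ⟨n, μ, -, hμ, hk⟩ := CharInt.exists_roots (Char.irr_isCharacter χ) t
  have h1 := hk 1
  rw [pow_one] at h1
  have h2 : ∀ i, ∃ z : ℤ, μ i ^ 1 = z := fun i => by
    have := hμ i
    rw [ht] at this
    rcases sq_eq_one_iff.1 this with e | e <;> [exact ⟨1, by simp [e]⟩; exact ⟨-1, by simp [e]⟩]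
  choose z hz using h2
  exact ⟨∑ i, z i, by rw [h1, Int.cast_sum]; exact sum_congr rfl fun i _ => hz i⟩

/-- The value of a character at an involution. -/
noncomputable def invVal {t : G} (ht : orderOf t = 2) (χ : IrrCharacter G) : ℤ :=
  Classical.choose (exists_int_apply ht χ)

theorem invVal_spec {t : G} (ht : orderOf t = 2) (χ : IrrCharacter G) :
    χ.1 t = (invVal ht χ : ℂ) :=
  Classical.choose_spec (exists_int_apply ht χ)

theorem degree_dvd_card_class_mul {t : G} (ht : orderOf t = 2) (χ : IrrCharacter G) :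
    (Char.degree χ : ℤ) ∣ (Nat.card {x : G // IsConj t x} : ℤ) * invVal ht χ := by
  obtain ⟨n, ρ, hρ, hρχ⟩ := χ.2
  haveI := hρ
  refine CharInt.dvd_of_isIntegral_div (Char.degree_pos χ).ne' ?_
  have hd : (Char.degree χ : ℂ) = (Module.finrank ℂ (Fin n → ℂ) : ℂ) := by
    rw [← Char.apply_one_eq_degree, ← hρχ, ρ.char_one]
  have h := CharInt.isIntegral_omega ρ t
  rw [← hd, hρχ, invVal_spec ht χ] at h
  push_cast
  exact h

/-- The Frobenius–Schur indicator as an integer. -/
noncomputable def nu (χ : IrrCharacter G) : ℤ := by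
  classical exact if ∀ g, (χ.1 g).im = 0 then (if Char.fsIndicator χ.1 = 1 then 1 else -1) else 0

theorem nu_spec (χ : IrrCharacter G) : Char.fsIndicator χ.1 = (nu χ : ℂ) := by
  classical
  unfold nu
  split_ifs with h h1
  · rw [h1]; simp
  · rw [(Char.fsIndicator_of_real χ h).resolve_left h1]; simp
  · rw [Char.fsIndicator_of_not_real χ h]; simp

theorem nu_eq_zero {χ : IrrCharacter G} (h : Char.conjIrr χ ≠ χ) : nu χ = 0 := by
  classical
  unfold nu
  rw [if_neg fun h' => h ((Char.conjIrr_eq_self_iff χ).2 h')]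

theorem nu_le_one (χ : IrrCharacter G) : nu χ ≤ 1 := by
  classical
  unfold nu
  split_ifs <;> norm_num

/-- A multiplicity squared is at least the weighted multiplicity. -/
theorem nu_mul_le_sq (χ : IrrCharacter G) (m : ℕ) : nu χ * (m : ℤ) ≤ (m : ℤ) ^ 2 := by
  rcases Nat.eq_zero_or_pos m with rfl | hm
  · simp
  · have := nu_le_one χ
    have : (1 : ℤ) ≤ m := by exact_mod_cast hm
    nlinarith

end Involution

section Main

variable {K E : Subgroup G} [Fintype K] [Fintype E]

theorem sqRootCount_of_mem (h : Setup K E) (hodd : Odd (Nat.card K)) {k : G} (hk : k ∈ K)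
    (hk1 : k ≠ 1) : Char.sqRootCount k = 1 := by
  classical
  obtain ⟨m, hm⟩ := hodd
  have hpow : ∀ x : G, x ∈ K → x ^ Nat.card K = 1 := fun x hx =>
    congrArg Subtype.val (pow_card_eq_one' (G := K) (x := ⟨x, hx⟩))
  have hsq : (k ^ (m + 1)) * (k ^ (m + 1)) = k := by
    rw [← pow_add, show m + 1 + (m + 1) = Nat.card K + 1 by omega, pow_succ, hpow k hk, one_mul]
  have huniq : ∀ u : G, u * u = k → u = k ^ (m + 1) := by
    intro u hu
    have hc : u⁻¹ * k * u = k := by rw [← hu]; group
    obtain ⟨x, hx, f, hf, rfl⟩ := h.ti u k hk hk1 (by rw [hc]; exact hk)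
    have hcomm : Commute (x * f) k := by
      show x * f * k = k * (x * f)
      rw [← hu]; group
    have hf1 := h.cent x hx f hf k hk hk1 hcomm
    subst hf1
    rw [mul_one] at hu ⊢
    rw [← hu, ← pow_two, ← pow_mul, show 2 * (m + 1) = Nat.card K + 1 by omega, pow_succ,
      hpow x hx, one_mul]
  have hcard : Nat.card {u : G // u * u = k} = 1 :=
    Nat.card_eq_one_iff_unique.2
      ⟨⟨fun a b => Subtype.ext ((huniq a.1 a.2).trans (huniq b.1 b.2).symm)⟩, ⟨⟨_, hsq⟩⟩⟩
  rw [Char.sqRootCount, hcard, Nat.cast_one]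

theorem sum_nu_mul_resMult (h : Setup K E) (hodd : Odd (Nat.card K))
    (hsq1 : Char.sqRootCount (1 : G) = 1 + (Nat.card K : ℂ) * Fintype.card E)
    {θ : IrrCharacter K} (hθ : θ ≠ Char.trivialChar K) :
    ∑ χ : IrrCharacter G, nu χ * (resMult K θ χ : ℤ) = (Fintype.card E : ℤ) * Char.degree θ := by
  classical
  have hL : classInner (fun x : K => Char.sqRootCount (x : G)) θ.1 =
      ((∑ χ : IrrCharacter G, nu χ * (resMult K θ χ : ℤ) : ℤ) : ℂ) := by
    have e1 : (fun x : K => Char.sqRootCount (x : G)) =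
        ∑ χ : IrrCharacter G, (nu χ : ℂ) • fun x : K => χ.1 x := by
      funext x
      rw [Char.sqRootCount_eq_sum]
      simp [nu_spec]
    rw [e1, Char.classInner_sum_left]
    push_cast
    exact sum_congr rfl fun χ _ => by rw [Char.classInner_smul_left, resMult_eq]
  have hne : (Nat.card K : ℂ) ≠ 0 := Nat.cast_ne_zero.2 Nat.card_pos.ne'
  have h0 : classInner (Char.trivialChar K).1 θ.1 = 0 :=
    Char.classInner_irr_of_ne (Char.trivialChar K).2 θ.2 fun e => hθ (Subtype.ext e.symm)
  have hval : ∀ x : K, Char.sqRootCount (x : G) * conj (θ.1 x) =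
      (Char.trivialChar K).1 x * conj (θ.1 x) +
        if x = 1 then (Nat.card K : ℂ) * Fintype.card E * Char.degree θ else 0 := by
    intro x
    rw [Char.trivialChar_apply, one_mul]
    by_cases hx : x = 1
    · subst hx
      rw [Subgroup.coe_one, hsq1, if_pos rfl, Char.apply_one_eq_degree, map_natCast]
      ring
    · rw [sqRootCount_of_mem h hodd x.2 fun e => hx (Subtype.ext e), if_neg hx]
      simp
  rw [classInner] at h0 hL
  rw [sum_congr rfl fun x _ => hval x, sum_add_distrib, mul_add, h0, zero_add,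
    sum_ite_eq' univ (1 : K), if_pos (mem_univ _)] at hL
  apply Int.cast_injective (α := ℂ)
  rw [← hL]
  push_cast
  field_simp

theorem not_isConj_of_mem (hodd : Odd (Nat.card K)) {t : G} (ht : orderOf t = 2) {k : G}
    (hk : k ∈ K) : ¬ IsConj k t := by
  intro hc
  obtain ⟨c, hc⟩ := isConj_iff.1 hc
  have h1 : orderOf k = 2 := by
    rw [← ht, ← hc]
    exact ((MulAut.conj c).orderOf_eq k).symm
  have h2 := orderOf_dvd_natCard (⟨k, hk⟩ : K)
  rw [← Subgroup.orderOf_coe] at h2
  rw [show ((⟨k, hk⟩ : K) : G) = k from rfl, h1] at h2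
  exact Nat.not_even_iff_odd.2 hodd (even_iff_two_dvd.2 h2)

theorem sum_invVal_mul_resMult (hodd : Odd (Nat.card K)) {t : G} (ht : orderOf t = 2)
    (θ : IrrCharacter K) :
    ∑ χ : IrrCharacter G, invVal ht χ * (resMult K θ χ : ℤ) = 0 := by
  classical
  have e1 : (∑ χ : IrrCharacter G, (invVal ht χ : ℂ) • fun x : K => χ.1 x) = fun _ => 0 := by
    funext x
    simp only [Finset.sum_apply, Pi.smul_apply, smul_eq_mul]
    have h := Char.sum_irr_mul_conj (x : G) t
    rw [if_neg (not_isConj_of_mem hodd ht x.2)] at h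
    refine Eq.trans (sum_congr rfl fun χ _ => ?_) h
    rw [invVal_spec ht χ, map_intCast, mul_comm]
  have h := congrArg (fun f => classInner f θ.1) e1
  simp only [Char.classInner_sum_left, Char.classInner_smul_left, resMult_eq] at h
  rw [show classInner (fun _ : K => (0 : ℂ)) θ.1 = 0 by simp [classInner]] at h
  exact_mod_cast h

/-- The class sum of an involution bounds its character values. -/
theorem card_mul_sq_le (hodd : Odd (Nat.card K)) {t : G} (ht : orderOf t = 2)
    (hG : Nat.card G = (Nat.card K + 1) * (Nat.card K * Fintype.card E))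
    (hclass : Nat.card {x : G // IsConj t x} = Nat.card K * Fintype.card E)
    (hno : ∀ a b : G, ∀ k ∈ K, k ≠ 1 → a * t * a⁻¹ * (b * t * b⁻¹) ≠ k)
    {φ : IrrCharacter K} (hφ : Char.degree φ = 1) (χ : IrrCharacter G)
    (hχ : resMult K φ χ = 1) :
    (Nat.card K : ℤ) * invVal ht χ ^ 2 ≤ ((Nat.card K : ℤ) + 1) * Char.degree χ := by
  classical
  have hGne : (Nat.card G : ℂ) ≠ 0 := Nat.cast_ne_zero.2 Nat.card_pos.ne'
  have hKne : (Nat.card K : ℂ) ≠ 0 := Nat.cast_ne_zero.2 Nat.card_pos.ne'
  have hcen : Nat.card (Subgroup.centralizer ({t} : Set G)) = Nat.card K + 1 := by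
    have h := Char.card_centralizer_mul_card_conj t
    rw [hclass, hG] at h
    exact Nat.eq_of_mul_eq_mul_right (Nat.mul_pos Nat.card_pos Fintype.card_pos) h
  set c : IrrCharacter G → ℂ := fun χ => (invVal ht χ : ℂ) ^ 2 / (Char.degree χ : ℂ)
  have hval : ∀ x : K, ∑ χ : IrrCharacter G, c χ * χ.1 x =
      if x = 1 then (Nat.card K : ℂ) + 1 else 0 := by
    intro x
    by_cases hx : x = 1
    · subst hx
      rw [if_pos rfl]
      have h := Char.sum_irr_mul_conj t t
      rw [if_pos (IsConj.refl t), hcen] at h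
      push_cast at h
      rw [← h]
      refine sum_congr rfl fun χ _ => ?_
      have hd : (Char.degree χ : ℂ) ≠ 0 := Nat.cast_ne_zero.2 (Char.degree_pos χ).ne'
      rw [Subgroup.coe_one, Char.apply_one_eq_degree, invVal_spec ht χ, map_intCast]
      simp only [c]
      field_simp
    · rw [if_neg hx]
      have h := Char.card_conj_mul_conj_eq t t ((x : G))⁻¹
      haveI : IsEmpty {p : G × G // p.1 * t * p.1⁻¹ * (p.2 * t * p.2⁻¹) = (x : G)⁻¹} :=
        ⟨fun p => hno p.1.1 p.1.2 _ (K.inv_mem x.2)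
          (fun e => hx (Subtype.ext (inv_eq_one.1 e))) p.2⟩
      rw [Nat.card_of_isEmpty, Nat.cast_zero, inv_inv] at h
      refine Eq.trans (sum_congr rfl fun χ _ => ?_) ((mul_eq_zero.1 h.symm).resolve_left hGne)
      simp only [c]
      rw [invVal_spec ht χ, Char.apply_one_eq_degree]
      ring
  have hR : classInner (fun x : K => ∑ χ : IrrCharacter G, c χ * χ.1 x) φ.1 =
      ((Nat.card K : ℂ) + 1) / Nat.card K := by
    rw [classInner, sum_congr rfl fun x _ => by rw [hval x, ite_mul, zero_mul],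
      sum_ite_eq' univ (1 : K), if_pos (mem_univ _), Char.apply_one_eq_degree, hφ, Nat.cast_one,
      map_one]
    field_simp
  have hL : classInner (fun x : K => ∑ χ : IrrCharacter G, c χ * χ.1 x) φ.1 =
      ∑ χ : IrrCharacter G, c χ * (resMult K φ χ : ℂ) := by
    rw [show (fun x : K => ∑ χ : IrrCharacter G, c χ * χ.1 x) =
      ∑ χ : IrrCharacter G, c χ • fun x : K => χ.1 x by funext x; simp,
      Char.classInner_sum_left]
    exact sum_congr rfl fun χ _ => by rw [Char.classInner_smul_left, resMult_eq]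
  have h1 : ∑ χ : IrrCharacter G, (invVal ht χ : ℝ) ^ 2 / (Char.degree χ : ℝ) * resMult K φ χ =
      ((Nat.card K : ℝ) + 1) / Nat.card K := by
    apply Complex.ofReal_injective
    push_cast
    exact hL.symm.trans hR
  have h2 : (invVal ht χ : ℝ) ^ 2 / (Char.degree χ : ℝ) ≤ ((Nat.card K : ℝ) + 1) / Nat.card K := by
    rw [← h1]
    have := single_le_sum (f := fun χ : IrrCharacter G =>
      (invVal ht χ : ℝ) ^ 2 / (Char.degree χ : ℝ) * resMult K φ χ) (fun ψ _ => by positivity)
      (mem_univ χ)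
    simpa [hχ] using this
  rw [div_le_div_iff₀ (by exact_mod_cast Char.degree_pos χ)
    (by exact_mod_cast (Nat.card_pos (α := K)))] at h2
  have h3 : ((invVal ht χ ^ 2 * (Nat.card K : ℤ) : ℤ) : ℝ) ≤
      ((((Nat.card K : ℤ) + 1) * Char.degree χ : ℤ) : ℝ) := by push_cast; exact h2
  have := Int.cast_le.1 h3
  linarith

theorem not_dvd_card_of_free {X : Type*} [Group X] [Finite X] {F : Type*} [Group F] [Fintype F]
    {ρ : F →* MulAut X} (hρ : Free ρ) {p : ℕ} [hp : Fact p.Prime] (hX : IsPGroup p X)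
    [Nontrivial X] : ¬ p ∣ Fintype.card F := by
  classical
  intro hdvd
  rw [← Nat.card_eq_fintype_card] at hdvd
  obtain ⟨s, hs⟩ := exists_prime_orderOf_dvd_card' p hdvd
  set S := Subgroup.zpowers s
  have hS : IsPGroup p S := IsPGroup.of_card (n := 1) (by rw [Nat.card_zpowers, hs, pow_one])
  letI : MulAction S X := MulAction.compHom X (ρ.comp S.subtype)
  have h1 := hS.card_modEq_card_fixedPoints X
  have hpX : p ∣ Nat.card X := by
    obtain ⟨n, hn⟩ := hX.exists_card_eq
    rcases n with _ | n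
    · have := Finite.one_lt_card (α := X); rw [hn] at this; simp at this
    · rw [hn]; exact dvd_pow_self p (by omega)
  have hone : (1 : X) ∈ MulAction.fixedPoints S X := fun f => map_one (ρ (f : F))
  haveI : Nonempty (MulAction.fixedPoints S X) := ⟨⟨1, hone⟩⟩
  have h2 : p ∣ Nat.card (MulAction.fixedPoints S X) :=
    Nat.modEq_zero_iff_dvd.1 (h1.symm.trans (Nat.modEq_zero_iff_dvd.2 hpX))
  haveI : Nontrivial (MulAction.fixedPoints S X) := by
    rw [← Finite.one_lt_card_iff_nontrivial]
    exact lt_of_lt_of_le hp.out.one_lt (Nat.le_of_dvd Nat.card_pos h2)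
  obtain ⟨x, hx⟩ := exists_ne (⟨1, hone⟩ : MulAction.fixedPoints S X)
  refine hρ s (fun e => hp.out.ne_one (by rw [← hs, e, orderOf_one])) x.1
    (fun e => hx (Subtype.ext e)) ?_
  rw [show ρ s x.1 = x.1 from x.2 ⟨s, Subgroup.mem_zpowers s⟩]

theorem sq_le_card (h : Setup K E) (hpg : Group.IsNilpotent K) (hodd : Odd (Nat.card K))
    (hEodd : Odd (Fintype.card E)) (hnc : commutator K ≠ ⊥) :
    (2 * Fintype.card E + 1) ^ 2 ≤ Nat.card K := by
  classical
  haveI := hpg
  set D := commutator K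
  haveI : Nontrivial D := D.nontrivial_iff_ne_bot.2 hnc
  haveI : Nontrivial K := Subtype.coe_injective.nontrivial (f := ((↑) : D → K))
  have hfree := free_conjAct h
  have hD : ∀ e, ∀ x ∈ D, conjAct h e x ∈ D := fun e x hx => by
    have h1 : D.map (conjAct h e).toMonoidHom = D :=
      Subgroup.characteristic_iff_map_eq.1 inferInstance _
    rw [← h1]
    exact Subgroup.mem_map_of_mem _ hx
  have hone : ∀ (Y : Type u) [Group Y] [Finite Y],
      (univ.filter fun η : IrrCharacter Y => Char.degree η = 1).card ≤ Nat.card Y := by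
    intro Y _ _
    rw [← sum_degree_sq Y, card_eq_sum_ones]
    refine le_trans (le_of_eq ?_) (sum_le_univ_sum_of_nonneg
      (s := univ.filter fun η : IrrCharacter Y => Char.degree η = 1) fun η => Nat.zero_le _)
    exact sum_congr rfl fun η hη => by rw [(mem_filter.1 hη).2, one_pow]
  have hDodd : Odd (Nat.card D) := Odd.of_dvd_nat hodd D.card_subgroup_dvd_card
  have h1 := (two_mul_succ_le_card_linear hfree commutator_ne_top hodd hEodd)
  have h2 := (two_mul_succ_le_card_linear (free_restrictAct hfree D hD) commutator_ne_top hDodd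
    hEodd).trans (hone D)
  have h3 : (univ.filter fun η : IrrCharacter K => Char.degree η = 1).card = D.index := by
    rw [← Char.card_linear, Nat.card_eq_fintype_card, Fintype.card_subtype]
    congr 1
    refine filter_congr fun η _ => ?_
    rw [Char.apply_one_eq_degree, Nat.cast_eq_one]
  rw [h3] at h1
  rw [sq, ← D.card_mul_index]
  exact Nat.mul_le_mul h2 h1

set_option maxHeartbeats 1500000 in
/-- Either a coherent character exists, or we are not in this situation. -/
theorem exists_linear_restriction_of_odd (h : Setup K E) {p : ℕ} [hp : Fact p.Prime] (hp2 : p ≠ 2)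
    (hK : IsPGroup p K) (hnc : commutator K ≠ ⊥) (hEodd : Odd (Fintype.card E))
    {t : G} (ht : orderOf t = 2)
    (hclass : Nat.card {x : G // IsConj t x} = Nat.card K * Fintype.card E)
    (hsq1 : Char.sqRootCount (1 : G) = 1 + (Nat.card K : ℂ) * Fintype.card E)
    (hno : ∀ a b : G, ∀ k ∈ K, k ≠ 1 → a * t * a⁻¹ * (b * t * b⁻¹) ≠ k)
    (hS : ∃ S : IrrCharacter G, Char.conjIrr S = S ∧ S.1 t = -1 ∧
      (∀ k ∈ K, k ≠ 1 → S.1 k = 0) ∧ S.1 1 = (Nat.card K : ℂ) ∧
      ∀ χ : IrrCharacter G, resMult K (Char.trivialChar K) χ ≠ 0 →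
        χ = Char.trivialChar G ∨ χ.1 t = 0 ∨ χ = S) :
    ∃ χ : IrrCharacter G, (∀ k ∈ commutator K, χ.1 k = χ.1 1) ∧ ∃ g : G, χ.1 g ≠ χ.1 1 := by
  classical
  obtain ⟨S₀, hSreal, hSt, hSK, hS1, hStriv⟩ := hS
  have hfree := free_conjAct h
  obtain ⟨n, hn⟩ := hK.exists_card_eq
  have hpodd : Odd p := hp.out.odd_of_ne_two hp2
  have hodd : Odd (Nat.card K) := by rw [hn]; exact hpodd.pow
  haveI : Nontrivial (commutator K) := (commutator K).nontrivial_iff_ne_bot.2 hnc
  haveI : Nontrivial K := Subtype.coe_injective.nontrivial (f := ((↑) : commutator K → K))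
  haveI hnil : Group.IsNilpotent K := hK.isNilpotent
  have hn0 : n ≠ 0 := by
    rintro rfl
    have := Finite.one_lt_card (α := K); rw [hn] at this; simp at this
  have hcardG : Nat.card G = (Nat.card K + 1) * (Nat.card K * Fintype.card E) := by
    rw [h.card, Nat.card_eq_fintype_card (α := E)]
  set e := Fintype.card E with he_def
  have hpe : ¬ p ∣ e := not_dvd_card_of_free hfree hK
  set one := Char.trivialChar K with hone_def
  set M := fun θ χ => (resMult K θ χ : ℤ) with hM
  have hM0 : ∀ θ χ, 0 ≤ M θ χ := fun θ χ => Int.natCast_nonneg _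
  obtain ⟨φ, hφ1, hφd⟩ := exists_ne_trivial_linear (X := K) commutator_ne_top
  set φ' := Char.conjIrr φ with hφ'_def
  have hφ'1 : φ' ≠ one := conjIrr_ne_trivial hφ1
  have hφ'd : Char.degree φ' = 1 := by rw [hφ'_def, degree_conjIrr, hφd]
  have hφφ' : mult (conjAct h) φ φ' = 0 := mult_conj_eq_zero hfree hEodd hodd hφ1 hφd
  have hMconj : ∀ χ, M φ' χ = M φ (Char.conjIrr χ) := fun χ => by
    simp only [hM, hφ'_def]
    rw [← classInner_conjIrr_conjIrr φ (Char.conjIrr χ), Char.conjIrr_conjIrr]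
  have hgφ : ∑ χ, M φ χ * M φ χ = (e : ℤ) + 1 := by
    simp only [hM]; rw [gram h hφ1 hφ1, mult_self hfree hφ1, hφd]; push_cast; ring
  have hgφφ' : ∑ χ, M φ χ * M φ' χ = (e : ℤ) := by
    simp only [hM]; rw [gram h hφ1 hφ'1, hφφ', hφd, hφ'd]; push_cast; ring
  have hνφ : ∑ χ, nu χ * M φ χ = (e : ℤ) := by
    simp only [hM]; rw [sum_nu_mul_resMult h hodd hsq1 hφ1, hφd]; push_cast; ring
  -- the non-real constituent
  set w := fun χ => M φ χ ^ 2 - nu χ * M φ χ with hw
  have hw0 : ∀ χ, 0 ≤ w χ := fun χ => sub_nonneg.2 (nu_mul_le_sq χ _)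
  have hwsum : ∑ χ, w χ = 1 := by
    simp only [hw, sum_sub_distrib, sq]; rw [hgφ, hνφ]; ring
  obtain ⟨X, hXnr, hXne⟩ : ∃ X, Char.conjIrr X ≠ X ∧ M φ X ≠ 0 := by
    by_contra hcon
    push Not at hcon
    have : ∑ χ, M φ χ * M φ' χ = ∑ χ, M φ χ * M φ χ := by
      refine sum_congr rfl fun χ _ => ?_
      by_cases h0 : M φ χ = 0
      · rw [h0, zero_mul, zero_mul]
      · rw [hMconj, not_ne_iff.1 fun h' => h0 (hcon χ h')]
    rw [hgφφ', hgφ] at this
    omega
  have hwX : M φ X = 1 ∧ ∀ χ, χ ≠ X → w χ = 0 := by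
    have h1 := add_sum_erase univ w (mem_univ X)
    have h2 : 0 ≤ ∑ χ ∈ univ.erase X, w χ := sum_nonneg fun χ _ => hw0 χ
    have h3 : 1 ≤ M φ X := by have := hM0 φ X; omega
    have hwX : w X = M φ X ^ 2 := by simp [hw, nu_eq_zero hXnr]
    have h5 : M φ X ≤ 1 := by
      have h4 : M φ X ≤ M φ X ^ 2 := by nlinarith
      omega
    have h6 : M φ X = 1 := le_antisymm h5 h3
    refine ⟨h6, fun χ hχ => ?_⟩
    have h7 : ∑ χ ∈ univ.erase X, w χ = 0 := by
      rw [h6, one_pow] at hwX; omega
    exact (sum_eq_zero_iff_of_nonneg fun χ _ => hw0 χ).1 h7 χ (mem_erase.2 ⟨hχ, mem_univ _⟩)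
  obtain ⟨hX1, hwz⟩ := hwX
  set X' := Char.conjIrr X with hX'_def
  have hXX' : X' ≠ X := hXnr
  have hX'nr : Char.conjIrr X' ≠ X' := by rw [Char.conjIrr_conjIrr]; exact hXX'.symm
  set R := univ.filter fun χ => χ ≠ X ∧ M φ χ ≠ 0 with hR
  have hRspec : ∀ χ ∈ R, M φ χ = 1 ∧ nu χ = 1 ∧ Char.conjIrr χ = χ := by
    intro χ hχ
    obtain ⟨hne, h0⟩ := (mem_filter.1 hχ).2
    have h1 := hwz χ hne
    simp only [hw] at h1
    have h2 : M φ χ * (M φ χ - nu χ) = 0 := by rw [← h1]; ring
    have h3 : M φ χ = nu χ := sub_eq_zero.1 ((mul_eq_zero.1 h2).resolve_left h0)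
    have h4 : 0 ≤ M φ χ := hM0 φ χ
    have := nu_le_one χ
    refine ⟨by omega, by omega, by_contra fun hc => ?_⟩
    rw [nu_eq_zero hc] at h3
    exact h0 h3
  have hX'R : X' ∉ R := fun hm => hX'nr (hRspec X' hm).2.2
  have hXR : X ∉ R := fun hm => (mem_filter.1 hm).2.1 rfl
  have hrest : ∀ χ, χ ∉ R → χ ≠ X → M φ χ = 0 := fun χ hχ hne =>
    by_contra fun h0 => hχ (mem_filter.2 ⟨mem_univ _, hne, h0⟩)
  have hexp : ∀ f : IrrCharacter G → ℤ, (∀ χ, χ ∉ R → χ ≠ X → f χ = 0) →
      ∑ χ, f χ = f X + ∑ χ ∈ R, f χ := fun f hf => by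
    rw [← sum_insert hXR]
    refine (sum_subset (subset_univ _) fun χ _ hχ => ?_).symm
    simp only [mem_insert, not_or] at hχ
    exact hf χ hχ.2 hχ.1
  have hRcard : (R.card : ℤ) = e := by
    have h1 := hexp (fun χ => M φ χ * M φ χ) fun χ h1 h2 => by simp [hrest χ h1 h2]
    rw [hgφ, hX1, sum_congr (s₁ := R) rfl (g := fun _ => (1 : ℤ)) fun χ hχ => by rw [(hRspec χ hχ).1]; ring]
      at h1
    simp at h1
    omega
  have hMφX' : M φ X' = 0 := hrest X' hX'R hXX'
  have hφR : ∀ θ, ∑ χ, M θ χ * M φ χ = M θ X + ∑ χ ∈ R, M θ χ := fun θ => by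
    rw [hexp _ fun χ h1 h2 => by rw [hrest χ h1 h2, mul_zero], hX1, mul_one]
    exact congrArg _ (sum_congr rfl fun χ hχ => by rw [(hRspec χ hχ).1, mul_one])
  have hφ'R : ∀ θ, ∑ χ, M θ χ * M φ' χ = M θ X' + ∑ χ ∈ R, M θ χ := fun θ => by
    rw [sum_nbij' (t := univ) (g := fun χ => M θ (Char.conjIrr χ) * M φ χ) Char.conjIrr Char.conjIrr
      (by simp) (by simp) (fun χ _ => Char.conjIrr_conjIrr χ) (fun χ _ => Char.conjIrr_conjIrr χ)
      (fun χ _ => by rw [hMconj, Char.conjIrr_conjIrr])]
    rw [hexp _ fun χ h1 h2 => by rw [hrest χ h1 h2, mul_zero], hX1, mul_one]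
    exact congrArg _ (sum_congr rfl fun χ hχ => by
      rw [(hRspec χ hχ).2.2, (hRspec χ hχ).1, mul_one])
  -- linear characters
  have hlinR : ∀ ψ, ψ ≠ one → Char.degree ψ = 1 →
      (∀ χ ∈ R, M ψ χ = 1) ∧ M ψ X = mult (conjAct h) φ ψ := by
    intro ψ hψ hψd
    have heq : ∀ η, η ≠ one → Char.degree η = 1 → mult (conjAct h) η ψ = 1 →
        ∀ χ, M ψ χ = M η χ := by
      intro η hη hηd hm χ
      have h1 : ∑ χ, (M ψ χ - M η χ) ^ 2 = 0 := by
        have e1 : ∀ χ, (M ψ χ - M η χ) ^ 2 =
            M ψ χ * M ψ χ - 2 * (M η χ * M ψ χ) + M η χ * M η χ := fun χ => by ring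
        simp only [e1, sum_add_distrib, sum_sub_distrib, ← mul_sum]
        simp only [hM]
        rw [gram h hψ hψ, gram h hη hψ, gram h hη hη, hm, mult_self hfree hψ, mult_self hfree hη,
          hψd, hηd]
        ring
      exact sub_eq_zero.1 (pow_eq_zero_iff two_ne_zero |>.1
        ((sum_eq_zero_iff_of_nonneg fun χ _ => sq_nonneg _).1 h1 χ (mem_univ _)))
    have g1 : M ψ X + ∑ χ ∈ R, M ψ χ = (e : ℤ) + mult (conjAct h) φ ψ := by
      rw [← hφR]; simp only [hM]; rw [gram h hψ hφ1, hψd, hφd, mult_comm _ ψ φ]; push_cast; ring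
    by_cases hm : mult (conjAct h) φ ψ = 1
    · have := heq φ hφ1 hφd hm
      exact ⟨fun χ hχ => by rw [this, (hRspec χ hχ).1], by rw [this, hX1, hm]; norm_num⟩
    have hm0 : mult (conjAct h) φ ψ = 0 := by have := mult_le_one hfree hφ1 ψ; omega
    by_cases hm' : mult (conjAct h) φ' ψ = 1
    · have := heq φ' hφ'1 hφ'd hm'
      refine ⟨fun χ hχ => ?_, ?_⟩
      · rw [this, hMconj, (hRspec χ hχ).2.2, (hRspec χ hχ).1]
      · rw [this, hMconj, ← hX'_def, hMφX', hm0]; norm_num
    have hm0' : mult (conjAct h) φ' ψ = 0 := by have := mult_le_one hfree hφ'1 ψ; omega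
    have g2 : M ψ X' + ∑ χ ∈ R, M ψ χ = (e : ℤ) := by
      rw [← hφ'R]; simp only [hM]; rw [gram h hψ hφ'1, hψd, hφ'd, mult_comm _ ψ φ', hm0']
      push_cast; ring
    rw [hm0] at g1 ⊢
    push_cast at g1 ⊢
    set W := fun χ => M ψ χ ^ 2 - nu χ * M ψ χ with hW
    have hW0 : ∀ χ, 0 ≤ W χ := fun χ => sub_nonneg.2 (nu_mul_le_sq χ _)
    have hWsum : ∑ χ, W χ = 1 := by
      simp only [hW, sum_sub_distrib, sq, hM]
      rw [gram h hψ hψ, mult_self hfree hψ, sum_nu_mul_resMult h hodd hsq1 hψ, hψd]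
      push_cast; ring
    have h2 : W X + W X' ≤ 1 := by
      rw [← hWsum, ← sum_pair hXX'.symm]
      exact sum_le_univ_sum_of_nonneg hW0
    simp only [hW, nu_eq_zero hXnr, nu_eq_zero hX'nr, zero_mul, sub_zero] at h2
    have hx0 : M ψ X = 0 := by
      have := hM0 ψ X
      have hh : M ψ X = M ψ X' := by linarith
      rw [← hh] at h2
      nlinarith
    refine ⟨?_, hx0⟩
    have hsum : ∑ χ ∈ R, (M ψ χ - 1) = 0 := by
      rw [sum_sub_distrib, sum_const, nsmul_eq_mul, mul_one, hRcard]; linarith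
    have hsq : ∑ χ ∈ R, (M ψ χ - 1) ^ 2 ≤ 1 := by
      have h3 : ∑ χ ∈ R, M ψ χ * M ψ χ ≤ (e : ℤ) + 1 := by
        calc ∑ χ ∈ R, M ψ χ * M ψ χ ≤ ∑ χ, M ψ χ * M ψ χ :=
              sum_le_univ_sum_of_nonneg fun χ => mul_self_nonneg _
          _ = _ := by
            simp only [hM]; rw [gram h hψ hψ, mult_self hfree hψ, hψd]; push_cast; ring
      have e1 : ∀ χ, (M ψ χ - 1) ^ 2 = M ψ χ * M ψ χ - 2 * (M ψ χ - 1) - 1 := fun χ => by ring
      rw [sum_congr rfl fun χ _ => e1 χ, sum_sub_distrib, sum_sub_distrib, ← mul_sum, hsum,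
        sum_const, nsmul_eq_mul, mul_one, hRcard]
      linarith
    intro χ hχ
    by_contra hne
    have h1 : 1 ≤ (M ψ χ - 1) ^ 2 := by
      have : M ψ χ - 1 ≠ 0 := sub_ne_zero.2 hne
      nlinarith [mul_self_pos.2 this]
    rw [← add_sum_erase R _ hχ] at hsq hsum
    have h4 : ∑ x ∈ R.erase χ, (M ψ x - 1) ^ 2 = 0 :=
      le_antisymm (by linarith) (sum_nonneg fun x _ => sq_nonneg _)
    have h5 : ∀ x ∈ R.erase χ, M ψ x - 1 = 0 := fun x hx => (pow_eq_zero_iff two_ne_zero).1
      ((sum_eq_zero_iff_of_nonneg fun x _ => sq_nonneg _).1 h4 x hx)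
    rw [sum_eq_zero h5, add_zero] at hsum
    exact hne (sub_eq_zero.1 hsum)
  -- nonlinear characters
  have hpdeg : ∀ θ : IrrCharacter K, Char.degree θ ≠ 1 → p ∣ Char.degree θ ∧ 3 ≤ Char.degree θ := by
    intro θ hθ
    have h1 := Char.degree_dvd_natCard θ
    rw [hn] at h1
    obtain ⟨i, -, hi⟩ := (Nat.dvd_prime_pow hp.out).1 h1
    have hi0 : i ≠ 0 := fun e => hθ (by rw [hi, e, pow_zero])
    have hp3 : 3 ≤ p := by have := hp.out.two_le; omega
    refine ⟨hi ▸ dvd_pow_self p hi0, hi ▸ hp3.trans ?_⟩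
    exact Nat.le_self_pow hi0 p
  have hnlR : ∀ θ : IrrCharacter K, Char.degree θ ≠ 1 →
      ∀ χ ∈ R, (Char.degree θ : ℤ) ≤ 4 * M θ χ := by
    intro θ hθ χ hχ
    have hθ1 : θ ≠ one := fun e => hθ (by rw [e, hone_def, degree_trivial])
    have hm : mult (conjAct h) θ φ = 0 := mult_eq_zero_of_degree (by rw [hφd]; exact hθ)
    have hm' : mult (conjAct h) θ φ' = 0 := mult_eq_zero_of_degree (by rw [hφ'd]; exact hθ)
    obtain ⟨-, ha3⟩ := hpdeg θ hθ
    set a := (Char.degree θ : ℤ) with ha
    have g1 : M θ X + ∑ χ ∈ R, M θ χ = (e : ℤ) * a := by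
      rw [← hφR]; simp only [hM]; rw [gram h hθ1 hφ1, hm, hφd]; push_cast; ring
    have g2 : M θ X' + ∑ χ ∈ R, M θ χ = (e : ℤ) * a := by
      rw [← hφ'R]; simp only [hM]; rw [gram h hθ1 hφ'1, hm', hφ'd]; push_cast; ring
    have hcc : M θ X' = M θ X := by linarith
    set c := M θ X
    have hc0 : 0 ≤ c := hM0 θ X
    set O := univ \ (insert X (insert X' R)) with hO
    have hXins : X ∉ insert X' R := by
      simp only [mem_insert, not_or]
      exact ⟨hXX'.symm, hXR⟩
    have hsplit : ∀ f : IrrCharacter G → ℤ,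
        ∑ x, f x = ∑ x ∈ O, f x + (f X + (f X' + ∑ x ∈ R, f x)) := fun f => by
      rw [← sum_sdiff (subset_univ (insert X (insert X' R))), sum_insert hXins, sum_insert hX'R]
    have hν : ∑ x ∈ O, nu x * M θ x = c := by
      have h1 := hsplit fun x => nu x * M θ x
      rw [nu_eq_zero hXnr, nu_eq_zero hX'nr, zero_mul, zero_mul, zero_add, zero_add,
        sum_congr (s₁ := R) rfl (g := fun x => M θ x) fun x hx => by
            rw [(hRspec x hx).2.1, one_mul]] at h1
      simp only [hM] at h1 g1 ⊢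
      rw [sum_nu_mul_resMult h hodd hsq1 hθ1] at h1
      linarith
    have hsq : ∑ x ∈ O, M θ x * M θ x + (c * c + (c * c + ∑ x ∈ R, M θ x * M θ x)) =
        (e : ℤ) * a * a + 1 := by
      have h1 := hsplit fun x => M θ x * M θ x
      rw [hcc] at h1
      simp only [hM] at h1 ⊢
      rw [gram h hθ1 hθ1, mult_self hfree hθ1] at h1
      push_cast at h1
      linarith
    have hOc : c ≤ ∑ x ∈ O, M θ x * M θ x := by
      rw [← hν]
      exact sum_le_sum fun x _ => (nu_mul_le_sq x _).trans (le_of_eq (sq _))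
    have hδ : ∑ x ∈ R, (M θ x - a) * (M θ x - a) ≤ 1 + 2 * a * c - 2 * c * c - c := by
      have e1 : ∀ x, (M θ x - a) * (M θ x - a) = M θ x * M θ x - 2 * a * M θ x + a * a :=
        fun x => by ring
      rw [sum_congr rfl fun x _ => e1 x, sum_add_distrib, sum_sub_distrib, ← mul_sum, sum_const,
        nsmul_eq_mul, hRcard]
      have g1' : ∑ x ∈ R, M θ x = (e : ℤ) * a - c := by linarith
      rw [g1']
      linarith
    have h1 : (M θ χ - a) * (M θ χ - a) ≤ 1 + 2 * a * c - 2 * c * c - c :=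
      le_trans (single_le_sum (f := fun x => (M θ x - a) * (M θ x - a))
        (fun x _ => mul_self_nonneg _) hχ) hδ
    have ha3' : (3 : ℤ) ≤ a := by rw [ha]; exact_mod_cast ha3
    by_contra hlt
    push Not at hlt
    have h6 : 3 * a + 1 ≤ 4 * (a - M θ χ) := by linarith
    have h7 : (3 * a + 1) * (3 * a + 1) ≤ (4 * (a - M θ χ)) * (4 * (a - M θ χ)) :=
      mul_self_le_mul_self (by linarith) h6
    nlinarith [sq_nonneg (a - 2 * c)]
  -- characters in `R` other than `S₀` vanish at `t`
  set h' := Nat.card K with hh'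
  have hbig := sq_le_card h hnil hodd hEodd hnc
  rw [← he_def] at hbig
  have hMφ1 : M φ (Char.trivialChar G) = 0 := by
    simp only [hM]; rw [resMult_trivial_of_ne hφ1]; rfl
  have hRT : ∀ χ ∈ R, χ ≠ S₀ → invVal ht χ = 0 := by
    intro χ hχ hχS
    by_contra hT
    obtain ⟨hχ1, -, -⟩ := hRspec χ hχ
    have hm1 : resMult K one χ = 0 := by
      by_contra hm
      rcases hStriv χ hm with e | e | e
      · rw [e, hMφ1] at hχ1; exact zero_ne_one hχ1
      · rw [invVal_spec ht χ] at e; exact hT (by exact_mod_cast e)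
      · exact hχS e
    set d := Char.degree χ with hd
    have hdsum := degree_eq_sum_resMult (K := K) χ
    have hterm : ∀ θ, θ ≠ one →
        Char.degree θ * Char.degree θ ≤ 4 * (resMult K θ χ * Char.degree θ) ∧
        (Char.degree θ : ZMod p) * Char.degree θ = (resMult K θ χ * Char.degree θ : ℕ) := by
      intro θ hθ
      by_cases hθd : Char.degree θ = 1
      · have hh := (hlinR θ hθ hθd).1 χ hχ
        simp only [hM, Nat.cast_eq_one] at hh
        rw [hθd, hh]; simp
      · obtain ⟨hpθ, -⟩ := hpdeg θ hθd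
        have h4 := hnlR θ hθd χ hχ
        simp only [hM] at h4
        have h4' : Char.degree θ ≤ 4 * resMult K θ χ := by exact_mod_cast h4
        refine ⟨?_, ?_⟩
        · rw [← mul_assoc]; exact Nat.mul_le_mul_right _ h4'
        · have hz : (Char.degree θ : ZMod p) = 0 := (ZMod.natCast_eq_zero_iff _ _).2 hpθ
          push_cast; rw [hz]; simp
    have hcardK := sum_degree_sq K
    rw [← add_sum_erase _ _ (mem_univ one), hone_def, degree_trivial] at hcardK
    rw [← add_sum_erase _ _ (mem_univ one), hm1, zero_mul, zero_add] at hdsum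
    have h4d : h' ≤ 1 + 4 * d := by
      rw [hd, hdsum, hh', ← hcardK, ← hone_def, mul_sum]
      simp only [one_pow]
      refine Nat.add_le_add_left (sum_le_sum fun θ hθ => ?_) 1
      rw [sq]; exact (hterm θ (ne_of_mem_erase hθ)).1
    have hpd : ¬ p ∣ d := by
      intro hdvd
      have h1 : ((1 + ∑ θ ∈ univ.erase one, Char.degree θ ^ 2 : ℕ) : ZMod p) = 0 := by
        rw [show 1 + ∑ θ ∈ univ.erase one, Char.degree θ ^ 2 = h' by
          rw [hh', ← hcardK, hone_def]; simp, hn]
        push_cast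
        rw [ZMod.natCast_self, zero_pow hn0]
      have h2 : ((∑ θ ∈ univ.erase one, Char.degree θ ^ 2 : ℕ) : ZMod p) = 0 := by
        have h3 : (d : ZMod p) = 0 := (ZMod.natCast_eq_zero_iff _ _).2 hdvd
        rw [← h3, hd, hdsum]
        push_cast
        refine sum_congr rfl fun θ hθ => ?_
        rw [sq, (hterm θ (ne_of_mem_erase hθ)).2]
        push_cast; rfl
      rw [Nat.cast_add, h2, Nat.cast_one, add_zero] at h1
      exact one_ne_zero h1
    have hdvd := degree_dvd_card_class_mul ht χ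
    rw [hclass, Nat.cast_mul, mul_assoc] at hdvd
    have hcop : IsCoprime (d : ℤ) (h' : ℤ) := by
      rw [Int.isCoprime_iff_nat_coprime, Int.natAbs_natCast, Int.natAbs_natCast, hn]
      exact ((hp.out.coprime_iff_not_dvd.2 hpd).symm).pow_right n
    have hdvd' : (d : ℤ) ∣ (e : ℤ) * invVal ht χ := hcop.dvd_of_dvd_mul_left hdvd
    have hne : (e : ℤ) * invVal ht χ ≠ 0 := mul_ne_zero (by
      have : 0 < e := Fintype.card_pos
      omega) hT
    have hle := Nat.le_of_dvd (Int.natAbs_pos.2 hne) (Int.natAbs_dvd_natAbs.2 hdvd')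
    rw [Int.natAbs_natCast] at hle
    have hle2 : (d : ℤ) * d ≤ (e : ℤ) * e * invVal ht χ ^ 2 := by
      have h1 : ((d * d : ℕ) : ℤ) ≤ ((((e : ℤ) * invVal ht χ).natAbs *
          ((e : ℤ) * invVal ht χ).natAbs : ℕ) : ℤ) := by exact_mod_cast Nat.mul_le_mul hle hle
      push_cast at h1
      rw [abs_mul_abs_self] at h1
      linarith
    have hTb := card_mul_sq_le hodd ht hcardG hclass hno hφd χ (by
      simp only [hM, Nat.cast_eq_one] at hχ1; exact hχ1)
    rw [← hh', ← hd] at hTb
    have h5 : (h' : ℤ) * d * d ≤ (e : ℤ) * e * ((h' : ℤ) + 1) * d := by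
      have := mul_le_mul_of_nonneg_left hle2 (Int.natCast_nonneg h')
      have := mul_le_mul_of_nonneg_left hTb (mul_nonneg (Int.natCast_nonneg e) (Int.natCast_nonneg e))
      linarith
    have hdpos : 0 < (d : ℤ) := by exact_mod_cast Char.degree_pos χ
    have h6 : (h' : ℤ) * d ≤ (e : ℤ) * e * ((h' : ℤ) + 1) := le_of_mul_le_mul_right h5 hdpos
    have hbig' : (2 * (e : ℤ) + 1) * (2 * e + 1) ≤ h' := by
      rw [← sq]; exact_mod_cast hbig
    have h7 : (d : ℤ) ≤ (e : ℤ) * e := by
      by_contra hlt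
      push Not at hlt
      have : (h' : ℤ) * ((e : ℤ) * e + 1) ≤ h' * d :=
        mul_le_mul_of_nonneg_left (by omega) (Int.natCast_nonneg h')
      nlinarith
    have h8 : (h' : ℤ) ≤ 1 + 4 * d := by exact_mod_cast h4d
    have he0 : (0 : ℤ) < e := by exact_mod_cast Fintype.card_pos (α := E)
    nlinarith
  -- `S₀` lies in `R`
  have hSφ : M φ S₀ = 1 := by
    have h1 := resMult_eq φ S₀
    rw [classInner, sum_eq_single (1 : K), Subgroup.coe_one, hS1, Char.apply_one_eq_degree, hφd,
      Nat.cast_one, map_one, mul_one, inv_mul_cancel₀ (Nat.cast_ne_zero.2 Nat.card_pos.ne')] at h1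
    · simp only [hM]; exact_mod_cast h1.symm
    · intro x _ hx
      rw [hSK x x.2 fun e => hx (Subtype.ext e), zero_mul]
    · intro hh; exact absurd (mem_univ _) hh
  have hSX : S₀ ≠ X := fun e' => hXnr (by rw [hX'_def, ← e']; exact hSreal)
  have hSR : S₀ ∈ R := mem_filter.2 ⟨mem_univ _, hSX, by rw [hSφ]; exact one_ne_zero⟩
  have hTS : invVal ht S₀ = -1 := by
    have h1 := invVal_spec ht S₀
    rw [hSt] at h1
    exact_mod_cast h1.symm
  have hTX : invVal ht X = 1 := by
    have h1 := sum_invVal_mul_resMult hodd ht φ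
    rw [hexp _ fun χ h1 h2 => ?_, sum_eq_single S₀] at h1
    · simp only [hM] at hX1 hSφ
      rw [hX1, hSφ, hTS] at h1; linarith
    · intro χ hχ hne; rw [hRT χ hχ hne, zero_mul]
    · intro hh; exact absurd hSR hh
    · have := hrest χ h1 h2; simp only [hM] at this; rw [this, mul_zero]
  have hX1' : resMult K one X = 0 := by
    by_contra hm
    rcases hStriv X hm with e' | e' | e'
    · rw [e', hMφ1] at hX1; exact zero_ne_one hX1
    · rw [invVal_spec ht X, hTX] at e'; simp at e'
    · exact hSX e'.symm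
  set d := Char.degree X with hd
  have hdsum := degree_eq_sum_resMult (K := K) X
  set Lk := fun θ : IrrCharacter K => if Char.degree θ = 1 then 0 else resMult K θ X * Char.degree θ
  have hdec : d = e + ∑ θ, Lk θ := by
    rw [hd, hdsum, he_def,
      show Fintype.card E = ∑ θ : IrrCharacter K, mult (conjAct h) φ θ by
        rw [← card_univ, card_eq_sum_card_fiberwise (f := fun g => twist (conjAct h) g φ)
          (t := univ) fun g _ => mem_univ _]
        exact sum_congr rfl fun θ _ => by simp only [mult]; congr, ← sum_add_distrib]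
    refine sum_congr rfl fun θ _ => ?_
    by_cases hθd : Char.degree θ = 1
    · simp only [Lk, if_pos hθd, add_zero, hθd, mul_one]
      by_cases hθ : θ = one
      · rw [hθ, hX1', hone_def, mult_trivial_right h hφ1]
      · have hh := (hlinR θ hθ hθd).2
        simp only [hM] at hh
        exact_mod_cast hh
    · simp only [Lk, if_neg hθd]
      rw [mult_eq_zero_of_degree (by rw [hφd]; exact Ne.symm hθd), zero_add]
  have hLp : p ∣ ∑ θ, Lk θ := dvd_sum fun θ _ => by
    by_cases hθd : Char.degree θ = 1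
    · simp [Lk, hθd]
    · simp only [Lk, if_neg hθd]
      exact Dvd.dvd.mul_left (hpdeg θ hθd).1 _
  have hpd : ¬ p ∣ d := fun hh => hpe ((Nat.dvd_add_left hLp).1 (hdec ▸ hh))
  have hde : d ∣ e := by
    have h1 := degree_dvd_card_class_mul ht X
    rw [hclass, hTX, mul_one, ← hd, Int.natCast_dvd_natCast] at h1
    refine ((hp.out.coprime_iff_not_dvd.2 hpd).symm.pow_right n).dvd_of_dvd_mul_left ?_
    rwa [← hn]
  have hzero : ∀ θ, Lk θ = 0 := by
    have := Nat.le_of_dvd Fintype.card_pos hde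
    have h0 : ∑ θ, Lk θ = 0 := by omega
    exact fun θ => (sum_eq_zero_iff.1 h0) θ (mem_univ θ)
  refine ⟨X, fun k hk => ?_, ?_⟩
  · have h1 := apply_eq_sum_resMult (K := K) X k
    have h2 := apply_eq_sum_resMult (K := K) X 1
    rw [Subgroup.coe_one] at h2
    rw [h1, h2]
    refine sum_congr rfl fun θ _ => ?_
    by_cases hθd : Char.degree θ = 1
    · obtain ⟨lam, hl⟩ := Char.IsCharacter.exists_monoidHom (Char.irr_isCharacter θ)
        (by rw [Char.apply_one_eq_degree, hθd, Nat.cast_one])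
      have hker : lam.toHomUnits k = 1 := by
        have := Abelianization.commutator_subset_ker lam.toHomUnits hk
        exact MonoidHom.mem_ker.1 this
      rw [← hl, map_one, show lam k = 1 from by
        rw [← MonoidHom.coe_toHomUnits lam k, hker, Units.val_one]]
    · have := hzero θ
      simp only [Lk, if_neg hθd] at this
      rw [(mul_eq_zero.1 this).resolve_right (Char.degree_pos θ).ne', Nat.cast_zero, zero_mul,
        zero_mul]
  · by_contra hc
    push Not at hc
    exact hXnr (Subtype.ext (funext fun g => by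
      rw [Char.conjIrr_apply, hc g, Char.apply_one_eq_degree, map_natCast]))

end Main

end Cfsg.Agent.ZassenhausFeit
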