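import Mathlib
import Cfsg.Agent.Lib.ZassenhausOdd.Abelian
import Cfsg.Agent.Lib.ZassenhausOdd.Reduction
import Cfsg.Agent.Lib.Perm.ZassenhausNormal
import Cfsg.Agent.Lib.ZassenhausFeit.Kernel
import Cfsg.Agent.Lib.ZassenhausFeit.OddKernel

/-!
# The inequality of Feit and Zassenhaus for two-point stabilisers of odd order

The kernel `H` of a point stabiliser is abelian and then small, or it is a `2`-group whose derived
group has small index: in all other cases an irreducible character of `G` is constant on the derived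
group of `H`, which is impossible in a perfect group.
-/

set_option autoImplicit false
set_option linter.unusedSectionVars false
set_option linter.style.haveILetI false
set_option linter.unusedDecidableInType false

namespace Cfsg.Agent.ZassenhausFeit

open MulAction Finset Cfsg.Agent.ZassenhausOdd
open scoped commutatorElement ComplexConjugate

universe u v

section Perfect

variable {G : Type u} {Ω : Type v} [Group G] [Fintype G] [MulAction G Ω] [Fintype Ω]
variable (hZ : Cfsg.IsZassenhausGroup G Ω) (hperf : commutator G = ⊤) {a b : Ω} (hab : a ≠ b)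
  (hodd : Odd (Nat.card (twoStab G a b))) {H : Subgroup G} (hHa : H ≤ stabilizer G a)
  (hHcard : Nat.card H + 1 = Fintype.card Ω)
  (hHfix : ∀ u ∈ H, u ≠ 1 → ∀ c : Ω, u • c = c → c = a)
include hZ hperf hab hodd hHa hHcard hHfix

theorem commutator_le_of_normal (N : Subgroup G) [N.Normal] (hN : N ≠ ⊥) : commutator G ≤ N := by
  classical
  haveI := Perm.Zass.normal_two_transitive hZ N hN
  obtain ⟨t, ht, hta, -⟩ := Perm.Zass.exists_swap hZ hab
  have hinv := twoStab_inverted hZ hab hperf hodd hta (Perm.Zass.sq_eq_one_of_order ht)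
  have hEc : ∀ x ∈ twoStab G a b, ∀ y ∈ twoStab G a b, x * y = y * x := by
    intro x hx y hy
    have e1 := hinv _ (mul_mem hx hy)
    rw [show t * (x * y) * t⁻¹ = (t * x * t⁻¹) * (t * y * t⁻¹) by group, hinv _ hx, hinv _ hy,
      ← mul_inv_rev] at e1
    exact (inv_injective e1).symm
  have hdec : ∀ g : G, ∃ x ∈ twoStab G a b, (g : G ⧸ N) = x := by
    intro g
    have hne : g • a ≠ g • b := fun e => hab (smul_left_cancel g e)
    obtain ⟨m, hma, hmb⟩ := (MulAction.is_two_pretransitive_iff (G := N) (α := Ω)).1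
      (Perm.Zass.normal_two_transitive hZ N hN) hab hne
    refine ⟨(m : G)⁻¹ * g, mem_twoStab.2 ⟨?_, ?_⟩, ?_⟩
    · rw [mul_smul, ← hma, Subgroup.smul_def, inv_smul_smul]
    · rw [mul_smul, ← hmb, Subgroup.smul_def, inv_smul_smul]
    · rw [QuotientGroup.mk_mul, QuotientGroup.mk_inv, (QuotientGroup.eq_one_iff (m : G)).2 m.2,
        inv_one, one_mul]
  rw [commutator_def, Subgroup.commutator_le]
  intro g _ g' _
  obtain ⟨x, hx, hgx⟩ := hdec g
  obtain ⟨y, hy, hgy⟩ := hdec g'
  rw [← QuotientGroup.eq_one_iff, ← QuotientGroup.mk'_apply N, map_commutatorElement,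
    QuotientGroup.mk'_apply, QuotientGroup.mk'_apply, hgx, hgy,
    commutatorElement_eq_one_iff_mul_comm, ← QuotientGroup.mk_mul, ← QuotientGroup.mk_mul,
    hEc x hx y hy]

/-- No non-constant irreducible character of a perfect group is constant on the derived group of a
non-abelian kernel. -/
theorem not_coherent (hnab : ∃ u v : H, u * v ≠ v * u) (χ : IrrCharacter G)
    (hker : ∀ k ∈ commutator H, χ.1 (k : G) = χ.1 1) : ∀ g, χ.1 g = χ.1 1 := by
  classical
  have hχ := Char.irr_isCharacter χ
  haveI := CharInt.charKernel_normal hχ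
  have hne : CharInt.charKernel hχ ≠ ⊥ := by
    intro hbot
    obtain ⟨u, v, huv⟩ := hnab
    apply huv
    have h1 : ((⁅u, v⁆ : H) : G) ∈ CharInt.charKernel hχ := (CharInt.mem_charKernel hχ).2
      (hker _ (Subgroup.commutator_mem_commutator (Subgroup.mem_top _) (Subgroup.mem_top _)))
    rw [hbot, Subgroup.mem_bot, OneMemClass.coe_eq_one] at h1
    exact commutatorElement_eq_one_iff_mul_comm.1 h1
  have h := commutator_le_of_normal hZ hperf hab hodd hHa hHcard hHfix _ hne
  rw [hperf] at h
  exact fun g => (CharInt.mem_charKernel hχ).1 (h (Subgroup.mem_top g))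

/-- The non-trivial constituent of the permutation character, and the characters whose restriction
to the kernel contains the trivial character. -/
theorem exists_perm_constituent_cases [Fintype H] :
    ∃ S : IrrCharacter G, Char.conjIrr S = S ∧ (∀ g : G, (∀ c : Ω, g • c ≠ c) → S.1 g = -1) ∧
      (∀ k ∈ H, k ≠ 1 → S.1 k = 0) ∧ S.1 1 = (Nat.card H : ℂ) ∧
      ∀ χ : IrrCharacter G, resMult H (Char.trivialChar H) χ ≠ 0 →
        χ = Char.trivialChar G ∨ χ = S ∨ ((∀ g : G, (∀ c : Ω, g • c ≠ c) → χ.1 g = 0) ∧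
          (∀ k ∈ H, k ≠ 1 → χ.1 k = 1) ∧ χ.1 1 = (Nat.card H : ℂ) + 1) := by
  classical
  set A := stabilizer G a
  obtain ⟨T, hTne, hTH, hT0⟩ := exists_linear_sum hZ hperf hab hodd hHa hHcard hHfix
  set π := Cfsg.indFun A (⇑(1 : A →* ℂ)) with hπ
  have hone : Cfsg.IsCharacter A (⇑(1 : A →* ℂ)) :=
    Char.IsIrrCharacter.isCharacter (Char.isIrrCharacter_of_monoidHom _)
  have hπc : Cfsg.IsCharacter G π := Char.isCharacter_indFun _ hone
  have h1c : Cfsg.IsClassFunction G (fun _ : G => (1 : ℂ)) :=
    Char.IsCharacter.isClassFunction Char.isCharacter_one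
  have hcardA : (Nat.card A : ℂ) ≠ 0 := Nat.cast_ne_zero.2 Nat.card_pos.ne'
  have h11 : Cfsg.classInner π (fun _ : G => (1 : ℂ)) = 1 := by
    rw [hπ, Char.classInner_indFun A _ h1c]
    simp [Cfsg.classInner, Nat.card_eq_fintype_card]
  have hππ : Cfsg.classInner π π = 2 := by
    rw [hπ, Char.classInner_indFun A _ (Char.isClassFunction_indFun _ _)]
    have hv : ∀ s : A, conj (π (s : G)) =
        1 + ∑ c ∈ univ.erase a, if (s : G) • c = c then (1 : ℂ) else 0 := by
      intro s
      show conj (Cfsg.indFun A (⇑(1 : A →* ℂ)) (s : G)) = _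
      rw [indFun_stabilizer hZ hperf hab hodd 1 s]
      simp [apply_ite]
    simp only [Cfsg.classInner, MonoidHom.one_apply, one_mul]
    rw [sum_congr rfl fun s _ => hv s, sum_add_distrib, sum_comm]
    have hc : ∀ c ∈ univ.erase a, (∑ s : A, if (s : G) • c = c then (1 : ℂ) else 0) =
        (Nat.card (twoStab G a b) : ℂ) := by
      intro c hc
      rw [sum_boole, ← card_twoStab_eq hZ hab (ne_of_mem_erase hc).symm, ← Fintype.card_subtype,
        ← Nat.card_eq_fintype_card]
      congr 1
      exact Nat.card_congr ⟨fun s => ⟨s.1, s.1.2, s.2⟩, fun g => ⟨⟨g, g.2.1⟩, g.2.2⟩,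
        fun s => rfl, fun g => rfl⟩
    rw [sum_congr rfl hc, sum_const, sum_const, card_univ, nsmul_one, nsmul_eq_mul,
      ← Nat.card_eq_fintype_card, card_erase_of_mem (mem_univ a), card_univ, ← Nat.cast_mul,
      ← card_stabilizer hZ hab]
    field_simp
    ring
  set θ : G → ℂ := π - fun _ => 1 with hθdef
  have hθ : Cfsg.IsGeneralizedCharacter G θ := ⟨π, _, hπc, Char.isCharacter_one, rfl⟩
  have h1π : Cfsg.classInner (fun _ : G => (1 : ℂ)) π = 1 := by
    rw [← Char.conj_classInner, h11, map_one]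
  have hθn : Cfsg.classInner θ θ = 1 := by
    simp only [θ, Char.classInner_sub_left, Char.classInner_sub_right, hππ, h11, h1π,
      Char.classInner_irr_self Char.isIrrCharacter_one]
    norm_num
  have hθ1 : θ 1 = (Nat.card H : ℂ) := by
    have h1 : π 1 = (Fintype.card Ω : ℂ) := by
      rw [hπ, Char.indFun_apply_one]
      haveI := hZ.2.1
      haveI : IsPretransitive G Ω := isPretransitive_of_is_two_pretransitive
      rw [index_stabilizer_of_transitive G a, Nat.card_eq_fintype_card]
      simp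
    rw [hθdef, Pi.sub_apply, h1, ← hHcard]
    push_cast
    ring
  obtain ⟨S, hS⟩ : ∃ S : IrrCharacter G, θ = S.1 := by
    obtain ⟨ψ, hψ | hψ⟩ := Char.IsGeneralizedCharacter.irr_or_neg_of_norm_one hθ hθn
    · exact ⟨ψ, hψ⟩
    · exfalso
      have h := congrFun hψ 1
      rw [hθ1, Pi.neg_apply, Char.apply_one_eq_degree, eq_neg_iff_add_eq_zero, ← Nat.cast_add,
        Nat.cast_eq_zero] at h
      have := Nat.card_pos (α := H)
      omega
  have hπt : ∀ g : G, (∀ c : Ω, g • c ≠ c) → π g = 0 := fun g hg => by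
    rw [hπ]
    exact Char.indFun_eq_zero_of_forall_notMem _ _ fun k hk => hg (k • a) (by
      rwa [mem_stabilizer_iff, mul_smul, mul_smul, inv_smul_eq_iff] at hk)
  refine ⟨S, ?_, ?_, ?_, ?_, ?_⟩
  · refine Subtype.ext (funext fun g => ?_)
    rw [Char.conjIrr_apply, ← hS, hθdef, Pi.sub_apply, map_sub, map_one, hπ]
    congr 1
    simp only [Cfsg.indFun, map_mul, map_inv₀, map_natCast, map_sum]
    congr 1
    refine sum_congr rfl fun x _ => ?_
    by_cases hx : x⁻¹ * g * x ∈ A
    · rw [Char.extendByZero_of_mem _ _ hx, MonoidHom.one_apply, map_one]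
    · rw [Char.extendByZero_of_notMem _ _ hx, map_zero]
  · intro g hg; rw [← hS, hθdef, Pi.sub_apply, hπt g hg, zero_sub]
  · intro k hk hk1
    rw [← hS, hθdef, Pi.sub_apply, hπ,
      indFun_stabilizer hZ hperf hab hodd 1 (⟨k, hHa hk⟩ : A),
      sum_eq_zero fun c hc => if_neg fun e => (ne_of_mem_erase hc) (hHfix k hk hk1 c e)]
    simp
  · rw [← hS, hθ1]
  intro χ hχm
  have hχ : Cfsg.classInner (fun u : H => χ.1 (u : G)) (fun _ => 1) ≠ 0 := by
    have h := resMult_eq (Char.trivialChar H) χ
    intro h0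
    exact hχm (by exact_mod_cast h.symm.trans h0)
  obtain ⟨lam, hlamT, hlam⟩ : ∃ lam ∈ T, Cfsg.classInner (fun s : A => χ.1 (s : G)) (⇑lam) ≠ 0 := by
    by_contra h
    push Not at h
    have h1 : ∑ lam ∈ T, Cfsg.classInner (fun s : A => χ.1 (s : G)) (⇑lam) = 0 := sum_eq_zero h
    simp only [Cfsg.classInner, ← mul_sum] at h1
    rw [sum_comm] at h1
    simp only [← mul_sum, ← map_sum] at h1
    have h2 : ∀ s : A, χ.1 (s : G) * conj (∑ lam ∈ T, lam s) =
        if (s : G) ∈ H then χ.1 (s : G) * T.card else 0 := by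
      intro s
      split_ifs with hs
      · rw [sum_congr rfl fun l hl => hTH l hl s hs]; simp
      · rw [hT0 s hs, map_zero, mul_zero]
    rw [sum_congr rfl fun s _ => h2 s, ← sum_filter, ← sum_mul,
      sum_bij (t := (univ : Finset H)) (g := fun u : H => χ.1 (u : G))
        (fun (s : A) hs => (⟨(s : G), (mem_filter.1 hs).2⟩ : H)) (fun _ _ => mem_univ _)
        (fun s _ s' _ e => Subtype.ext (congrArg (fun u : H => (u : G)) e))
        (fun u _ => ⟨⟨u, hHa u.2⟩, mem_filter.2 ⟨mem_univ _, u.2⟩, rfl⟩) (fun _ _ => rfl)] at h1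
    have hsum : ∑ u : H, χ.1 (u : G) ≠ 0 := fun h0 => hχ (by simp [Cfsg.classInner, h0])
    have hT : (T.card : ℂ) ≠ 0 := Nat.cast_ne_zero.2 (card_ne_zero.2 hTne)
    rcases mul_eq_zero.1 h1 with h1 | h1
    · exact inv_ne_zero (Nat.cast_ne_zero.2 Nat.card_pos.ne') h1
    · exact hsum ((mul_eq_zero.1 h1).resolve_right hT)
  have hcl := Char.IsCharacter.isClassFunction (Char.irr_isCharacter χ)
  have hmult : Cfsg.classInner χ.1 (Cfsg.indFun A (⇑lam)) ≠ 0 := by
    rwa [Char.classInner_indFun_right A _ hcl]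
  by_cases hne : lam = 1
  · subst hne
    by_cases hχ1 : χ = Char.trivialChar G
    · exact Or.inl hχ1
    refine Or.inr (Or.inl ?_)
    by_contra hχS
    apply hmult
    have h2 : Cfsg.classInner χ.1 θ = 0 := by rw [hS, Char.classInner_irr, if_neg hχS]
    rw [hθdef, Char.classInner_sub_right,
      Char.classInner_irr_of_ne χ.2 Char.isIrrCharacter_one fun e => hχ1 (Subtype.ext e), sub_zero]
      at h2
    exact h2
  · refine Or.inr (Or.inr ?_)
    have honly : ∀ s : A, (∀ c, (s : G) • c = c → c = a) → lam s = 1 := fun s hs =>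
      hTH lam hlamT s (mem_kernel_of_fix_only hZ hHa hHcard hHfix s.2 hs)
    have hirr := isIrrCharacter_indFun hZ hperf hab hodd lam honly hne
    have h : χ.1 = Cfsg.indFun A (⇑lam) := by
      by_contra hne'
      exact hmult (Char.classInner_irr_of_ne χ.2 hirr hne')
    rw [h]
    refine ⟨fun g hg => Char.indFun_eq_zero_of_forall_notMem _ _ fun k hk => hg (k • a) (by
      rwa [mem_stabilizer_iff, mul_smul, mul_smul, inv_smul_eq_iff] at hk), fun k hk hk1 => ?_, ?_⟩
    · rw [indFun_stabilizer hZ hperf hab hodd lam (⟨k, hHa hk⟩ : A), hTH lam hlamT ⟨k, hHa hk⟩ hk,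
        sum_eq_zero fun c hc => if_neg fun e => (ne_of_mem_erase hc) (hHfix k hk hk1 c e), add_zero]
    · rw [Char.indFun_apply_one]
      haveI := hZ.2.1
      haveI : IsPretransitive G Ω := isPretransitive_of_is_two_pretransitive
      rw [index_stabilizer_of_transitive G a, Nat.card_eq_fintype_card, ← hHcard, map_one, mul_one]
      push_cast
      rfl

/-- The characters whose restriction to the kernel contains the trivial character, at a fixed point
free element. -/
theorem exists_perm_constituent [Fintype H] {t : G} (ht : ∀ c : Ω, t • c ≠ c) :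
    ∃ S : IrrCharacter G, Char.conjIrr S = S ∧ S.1 t = -1 ∧
      (∀ k ∈ H, k ≠ 1 → S.1 k = 0) ∧ S.1 1 = (Nat.card H : ℂ) ∧
      ∀ χ : IrrCharacter G, resMult H (Char.trivialChar H) χ ≠ 0 →
        χ = Char.trivialChar G ∨ χ.1 t = 0 ∨ χ = S := by
  obtain ⟨S, h1, h2, h3, h4, h5⟩ :=
    exists_perm_constituent_cases hZ hperf hab hodd hHa hHcard hHfix
  refine ⟨S, h1, h2 t ht, h3, h4, fun χ hχ => ?_⟩
  rcases h5 χ hχ with h | h | h
  · exact Or.inl h
  · exact Or.inr (Or.inr h)
  · exact Or.inr (Or.inl (h.1 t ht))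

/-- A non-abelian kernel of a perfect group is a `2`-group with small abelianisation. -/
theorem two_group_of_perfect (hnab : ∃ u v : H, u * v ≠ v * u) :
    IsPGroup 2 H ∧ (commutator H).index ≤ 4 * Nat.card (twoStab G a b) ^ 2 + 1 := by
  classical
  have h3 := Perm.Zass.three_le hZ
  have hH : 1 < Nat.card H := by omega
  have hs := setup_of_zassenhaus hZ hab hHa hHcard hHfix
  set E := twoStab G a b
  letI := Fintype.ofFinite H
  letI := Fintype.ofFinite E
  have hcardE : Fintype.card E = Nat.card E := Nat.card_eq_fintype_card.symm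
  have hd : 1 < Fintype.card E := hcardE ▸ twoStab_nontrivial hZ hab
  have hdodd : Odd (Fintype.card E) := hcardE ▸ hodd
  have hfree := free_conjAct hs
  haveI hnil : Group.IsNilpotent H := by
    obtain ⟨q, hq, hqd⟩ := Nat.exists_prime_and_dvd hd.ne'
    haveI := Fact.mk hq
    obtain ⟨e, he⟩ := exists_prime_orderOf_dvd_card q hqd
    refine PComplement.isNilpotent_of_fpf (p := q) H (conjAct hs e) ?_ fun x hx => ?_
    · rw [← map_pow, ← he, pow_orderOf_eq_one, map_one]
    · by_contra hx1
      exact hfree e (fun h => hq.ne_one (by rw [← he, h, orderOf_one])) x hx1 (by rw [hx])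
  have hcoh : ∀ χ : IrrCharacter G, (∀ k ∈ commutator H, χ.1 (k : G) = χ.1 1) →
      ¬ ∃ g : G, χ.1 g ≠ χ.1 1 := fun χ hker ⟨g, hg⟩ =>
    hg (not_coherent hZ hperf hab hodd hHa hHcard hHfix hnab χ hker g)
  by_cases hnpp : IsPrimePow (Nat.card H)
  swap
  · exfalso
    obtain ⟨χ, hker, hg⟩ := exists_linear_restriction hs (linear_bound hfree hdodd hH hnpp)
      (fun θ hθ => nonlinear_bound hfree hdodd hd hH hnpp θ hθ)
    exact hcoh χ hker hg
  obtain ⟨p, k, hp, hk, hpk⟩ := hnpp
  have hp' : p.Prime := Nat.prime_iff.2 hp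
  haveI := Fact.mk hp'
  have hpg : IsPGroup p H := IsPGroup.of_card hpk.symm
  by_cases hp2 : p = 2
  · subst hp2
    refine ⟨hpg, ?_⟩
    rw [← hcardE]
    by_contra hbig
    push Not at hbig
    set e := Fintype.card E
    have hidx : (univ.filter fun η : IrrCharacter H => Char.degree η = 1).card =
        (commutator H).index := by
      rw [← Char.card_linear, Nat.card_eq_fintype_card, Fintype.card_subtype]
      congr 1
      refine filter_congr fun η _ => ?_
      rw [Char.apply_one_eq_degree, Nat.cast_eq_one]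
    have he2 : e * (2 * e + 3) + 1 ≤ 4 * e ^ 2 + 2 := by
      have : 3 * e ≤ 2 * e * e + 1 := by nlinarith
      nlinarith
    obtain ⟨χ, hker, hg⟩ := exists_linear_restriction hs (by rw [hidx]; linarith) fun θ hθ => by
      obtain ⟨j, -, hj⟩ := (Nat.dvd_prime_pow hp').1 (hpk.symm ▸ Char.degree_dvd_natCard θ)
      have hj0 : j ≠ 0 := fun e0 => hθ (by rw [hj, e0, pow_zero])
      have hfeven : 2 ∣ Char.degree θ := hj ▸ dvd_pow_self 2 hj0
      have hS1 := sq_le_sum_lt_of_nilpotent H θ hθ
      have hS2 : (commutator H).index ≤ ∑ η ∈ univ.filter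
          (fun η : IrrCharacter H => Char.degree η < Char.degree θ), Char.degree η ^ 2 := by
        rw [← hidx, card_eq_sum_ones]
        refine le_trans (le_of_eq (sum_congr rfl fun η hη => ?_))
          (sum_le_sum_of_subset (f := fun η : IrrCharacter H => Char.degree η ^ 2) ?_)
        · rw [(mem_filter.1 hη).2, one_pow]
        · intro η hη
          rw [mem_filter] at hη ⊢
          have := Char.degree_pos θ
          exact ⟨hη.1, by omega⟩
      set f := Char.degree θ
      rcases Nat.lt_or_ge (2 * f + 1) (4 * e + 1) with hlt | hge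
      · have : (2 * f + 1) * e ≤ 4 * e * e := Nat.mul_le_mul_right e (by omega)
        have : 4 * e * e = 4 * e ^ 2 := by ring
        linarith
      · have hne : f ≠ 2 * e := by
          intro e0
          rw [hj] at e0
          obtain ⟨j', rfl⟩ := Nat.exists_eq_succ_of_ne_zero hj0
          rw [pow_succ'] at e0
          have he' : 2 ^ j' = e := by omega
          rcases Nat.eq_zero_or_pos j' with rfl | hj'
          · simp at he'; omega
          · exact Nat.not_even_iff_odd.2 hdodd (he' ▸ (even_two.pow_of_ne_zero hj'.ne'))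
        have hf : (2 * e + 1) * f ≤ f * f := Nat.mul_le_mul_right f (by omega)
        have h1 : (2 * f + 1) * e + 1 < (2 * e + 1) * f := by nlinarith
        rw [sq] at hS1
        linarith
    exact hcoh χ hker hg
  exfalso
  have hHodd : Odd (Nat.card H) := by rw [← hpk]; exact (hp'.odd_of_ne_two hp2).pow
  have hnc : commutator H ≠ ⊥ := by
    obtain ⟨u, v, huv⟩ := hnab
    intro hbot
    apply huv
    have h1 : ⁅u, v⁆ ∈ commutator H :=
      Subgroup.commutator_mem_commutator (Subgroup.mem_top _) (Subgroup.mem_top _)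
    rw [hbot, Subgroup.mem_bot] at h1
    exact commutatorElement_eq_one_iff_mul_comm.1 h1
  have heven : Even (Fintype.card Ω) := by
    rw [← hHcard]; exact hHodd.add_one
  obtain ⟨t, ht, -, -⟩ := Perm.Zass.exists_swap hZ hab
  have hfpf : ∀ {s : G}, orderOf s = 2 → ∀ c : Ω, s • c ≠ c := by
    intro s hs2 c hc
    have h := card_fixed_involution hZ hab hodd hs2
    rw [if_neg (Nat.not_odd_iff_even.2 heven), card_eq_zero, filter_eq_empty_iff] at h
    exact h (mem_univ c) hc
  have hclass : Nat.card {x : G // IsConj t x} = Nat.card H * Fintype.card E := by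
    rw [hcardE, show Nat.card H = Fintype.card Ω - 1 by omega,
      ← card_involutions_of_even hZ hperf hab hodd heven, Nat.card_eq_fintype_card,
      Fintype.card_subtype]
    congr 1
    refine filter_congr fun x _ => ⟨fun hc => ?_, fun hx => isConj_involution hZ hperf hab hodd ht hx⟩
    obtain ⟨c, rfl⟩ := isConj_iff.1 hc
    exact ((MulAut.conj c).orderOf_eq t).trans ht
  have hsq1 : Char.sqRootCount (1 : G) = 1 + (Nat.card H : ℂ) * Fintype.card E := by
    have h1 : Nat.card {u : G // u * u = 1} = 1 + Nat.card H * Fintype.card E := by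
      rw [hcardE, show Nat.card H = Fintype.card Ω - 1 by omega,
        ← card_involutions_of_even hZ hperf hab hodd heven, Nat.card_eq_fintype_card,
        Fintype.card_subtype, add_comm,
        ← card_insert_of_notMem (a := (1 : G)) (by simp)]
      congr 1
      ext x
      simp only [mem_filter, mem_univ, true_and, mem_insert]
      constructor
      · intro hx
        rcases eq_or_ne x 1 with h | h
        · exact Or.inl h
        · exact Or.inr (orderOf_eq_prime (by rw [pow_two, hx]) h)
      · rintro (rfl | hx)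
        · exact one_mul 1
        · exact Perm.Zass.sq_eq_one_of_order hx
    rw [Char.sqRootCount, h1]
    push_cast
    rfl
  have hno : ∀ c d : G, ∀ k ∈ H, k ≠ 1 → c * t * c⁻¹ * (d * t * d⁻¹) ≠ k := by
    intro c d k hk hk1 heq
    set x := c * t * c⁻¹
    set y := d * t * d⁻¹
    have hx : orderOf x = 2 := ((MulAut.conj c).orderOf_eq t).trans ht
    have hy : orderOf y = 2 := ((MulAut.conj d).orderOf_eq t).trans ht
    have hxx := Perm.Zass.sq_eq_one_of_order hx
    have hyy := Perm.Zass.sq_eq_one_of_order hy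
    have hxk : k⁻¹ * x = x * k := by
      rw [← heq, mul_inv_rev, inv_eq_of_mul_eq_one_right hyy, inv_eq_of_mul_eq_one_right hxx,
        mul_assoc, hxx, mul_one, ← mul_assoc, hxx, one_mul]
    have h1 : k⁻¹ • (x • a) = x • a := by
      rw [← mul_smul, hxk, mul_smul, (hHa hk : k • a = a)]
    exact hfpf hx a (hHfix k⁻¹ (H.inv_mem hk) (fun e => hk1 (inv_eq_one.1 e)) _ h1)
  obtain ⟨χ, hker, hg⟩ := exists_linear_restriction_of_odd hs hp2 hpg hnc hdodd ht hclass hsq1 hno
    (exists_perm_constituent hZ hperf hab hodd hHa hHcard hHfix (hfpf ht))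
  exact hcoh χ hker hg

end Perfect

private theorem main_aux (n : ℕ) : ∀ {G : Type u} {Ω : Type v} [Group G] [Fintype G] [MulAction G Ω]
    [Fintype Ω], Nat.card G = n → Cfsg.IsZassenhausGroup G Ω → ∀ {a b : Ω}, a ≠ b →
    Odd (Nat.card (twoStab G a b)) → ∀ {H : Subgroup G}, H ≤ stabilizer G a →
    Nat.card H + 1 = Fintype.card Ω → (∀ u ∈ H, u ≠ 1 → ∀ c : Ω, u • c = c → c = a) →
    Fintype.card Ω - 2 ≤ 2 * Nat.card (twoStab G a b) ∨ (IsPGroup 2 H ∧
      (∃ u v : H, u * v ≠ v * u) ∧
      (commutator H).index ≤ 4 * Nat.card (twoStab G a b) ^ 2 + 1) := by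
  induction n using Nat.strongRecOn with
  | _ n ih =>
  intro G Ω _ _ _ _ hn hZ a b hab hodd H hHa hHcard hHfix
  classical
  by_cases hnab : ∃ u v : H, u * v ≠ v * u
  swap
  · push Not at hnab
    exact Or.inl (Nat.le_of_dvd (Nat.mul_pos two_pos Nat.card_pos)
      (dvd_two_mul_of_abelian hZ hab hodd hHa hHcard hHfix
        fun u hu v hv => congrArg Subtype.val (hnab ⟨u, hu⟩ ⟨v, hv⟩)))
  by_cases hperf : commutator G = ⊤
  · obtain ⟨h2, h4⟩ := two_group_of_perfect hZ hperf hab hodd hHa hHcard hHfix hnab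
    exact Or.inr ⟨h2, hnab, h4⟩
  set N := commutator G with hN
  have hNb : N ≠ ⊥ := commutator_ne_bot hZ
  have hZN := Perm.Zass.normal_isZassenhausGroup hZ N hNb
  have hHN : H ≤ N := fun u hu => by
    rcases eq_or_ne u 1 with rfl | hu1
    · exact N.one_mem
    · exact kernel_le_normal hZ N hNb (hHa hu) (hHfix u hu hu1)
  letI : Fintype N := Fintype.ofFinite N
  have hlt : Nat.card N < n := by
    rw [← hn]
    refine lt_of_le_of_ne (Subgroup.card_le_card_group N) fun h => hperf ?_
    exact Subgroup.eq_top_of_card_eq N h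
  have hdvd : Nat.card (twoStab N a b) ∣ Nat.card (twoStab G a b) := by
    rw [card_twoStab_subgroup]; exact Subgroup.card_dvd_of_le inf_le_right
  have hle : Nat.card (twoStab N a b) ≤ Nat.card (twoStab G a b) := Nat.le_of_dvd Nat.card_pos hdvd
  have φ := Subgroup.subgroupOfEquivOfLe hHN
  rcases ih _ hlt rfl hZN hab (Odd.of_dvd_nat hodd hdvd) (H := H.subgroupOf N) (fun u hu => hHa hu)
    (by rw [Nat.card_congr φ.toEquiv, hHcard])
    (fun u hu hu1 => hHfix u hu fun e => hu1 (Subtype.ext e)) with h | ⟨h2, -, h4⟩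
  · exact Or.inl (h.trans (Nat.mul_le_mul_left 2 hle))
  · refine Or.inr ⟨h2.of_equiv φ, hnab, ?_⟩
    have hidx : (commutator (H.subgroupOf N)).index = (commutator H).index :=
      Nat.card_congr φ.abelianizationCongr.toEquiv
    rw [← hidx]
    exact h4.trans (Nat.add_le_add_right (Nat.mul_le_mul_left 4 (Nat.pow_le_pow_left hle 2)) 1)

/-- **Feit–Zassenhaus inequality.** -/
theorem inequality {G : Type u} {Ω : Type v} [Group G] [Fintype G] [MulAction G Ω] [Fintype Ω]
    (hZ : Cfsg.IsZassenhausGroup G Ω) {a b : Ω} (hab : a ≠ b)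
    (hodd : Odd (Nat.card (twoStab G a b))) {H : Subgroup G} (hHa : H ≤ stabilizer G a)
    (hHcard : Nat.card H + 1 = Fintype.card Ω)
    (hHfix : ∀ u ∈ H, u ≠ 1 → ∀ c : Ω, u • c = c → c = a) :
    Fintype.card Ω - 2 ≤ 2 * Nat.card (twoStab G a b) ∨ (IsPGroup 2 H ∧
      (∃ u v : H, u * v ≠ v * u) ∧
      (commutator H).index ≤ 4 * Nat.card (twoStab G a b) ^ 2 + 1) :=
  main_aux _ rfl hZ hab hodd hHa hHcard hHfix

end Cfsg.Agent.ZassenhausFeit
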